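import Cfsg.Agent.Lib.Char.SteinbergDescend
import Cfsg.Agent.Lib.Char.Scalar
import Cfsg.Agent.Lib.Char.Integrality
import Mathlib.FieldTheory.Finite.Basic

/-!
# Descent of a character of full `p`-part degree to a central quotient
-/

set_option autoImplicit false
set_option linter.unusedSectionVars false

namespace CfsgLib.Char.PolarSteinberg

open Cfsg Module

universe u

/-- The exact power of `p` in an order, from an equation. -/
theorem exact_part {p n c s M : ℕ} (hp : p.Prime) (h : c * s = p ^ n * M) (hs : ¬ p ∣ s) (hM : ¬ p ∣ M) :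
    p ^ n ∣ c ∧ ¬ p ^ (n + 1) ∣ c := by
  refine ⟨(Nat.Coprime.pow_left n (hp.coprime_iff_not_dvd.2 hs)).dvd_of_dvd_mul_right (Dvd.intro _ h.symm), fun hc => ?_⟩
  have h1 : p ^ n * p ∣ p ^ n * M := by
    rw [← pow_succ, ← h]
    exact hc.mul_right s
  exact hM (Nat.dvd_of_mul_dvd_mul_left (pow_pos hp.pos n) h1)

theorem not_dvd_pow_sub_one {p q k : ℕ} (hp : p.Prime) (hq : p ∣ q) (hq0 : 0 < q) (hk : 1 ≤ k) :
    ¬ p ∣ q ^ k - 1 := fun h => by
  have h1 : p ∣ q ^ k := dvd_pow hq (by omega)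
  have h2 := Nat.dvd_sub h1 h
  rw [show q ^ k - (q ^ k - 1) = 1 by have : 0 < q ^ k := pow_pos hq0 k; omega] at h2
  exact hp.one_lt.ne' (Nat.dvd_one.1 h2)

theorem not_dvd_pow_add_one {p q k : ℕ} (hp : p.Prime) (hq : p ∣ q) (hk : 1 ≤ k) : ¬ p ∣ q ^ k + 1 := fun h => by
  have h1 : p ∣ q ^ k := dvd_pow hq (by omega)
  exact hp.one_lt.ne' (Nat.dvd_one.1 ((Nat.dvd_add_right h1).1 h))

theorem not_dvd_prod {p : ℕ} (hp : p.Prime) {ι : Type*} (s : Finset ι) (f : ι → ℕ)
    (h : ∀ i ∈ s, ¬ p ∣ f i) : ¬ p ∣ ∏ i ∈ s, f i := fun hd => by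
  obtain ⟨i, hi, hi'⟩ := (Prime.dvd_finsetProd_iff hp.prime f).1 hd
  exact h i hi hi'

variable {H : Type u} [Group H] [Finite H]

/-- A character of full `p`-part degree, trivial on a normal subgroup, descends. -/
theorem exists_on_quotient {p n : ℕ} [Fact p.Prime] {χ : H → ℂ} (hχ : IsIrrCharacter H χ)
    (hdeg : χ 1 = ((p ^ n : ℕ) : ℂ)) (hn : ¬ p ^ (n + 1) ∣ Nat.card H) (Z : Subgroup H) [Z.Normal]
    (hZ : ∀ z ∈ Z, χ z = χ 1) :
    ∃ χ' : H ⧸ Z → ℂ, IsIrrCharacter (H ⧸ Z) χ' ∧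
      ∀ P : Sylow p (H ⧸ Z), χ' 1 = Nat.card P ∧ ∀ x : H ⧸ Z, x ∈ P → x ≠ 1 → χ' x = 0 := by
  obtain ⟨χ', h1, h2⟩ := exists_isIrr_quotient hχ Z hZ
  have hd : χ' 1 = ((p ^ n : ℕ) : ℂ) := by
    rw [← hdeg, ← h2 1]
    rfl
  have hdvd : p ^ n ∣ Nat.card (H ⧸ Z) := degree_dvd_card ⟨χ', h1⟩ hd
  exact ⟨χ', h1, fun P => steinberg_props h1 hdvd (fun h => hn (h.trans Z.card_quotient_dvd_card)) hd P⟩

/-- Nothing to do when `p` is prime to the order. -/
theorem exists_on_quotient_of_not_dvd {p : ℕ} [Fact p.Prime] (hp : ¬ p ∣ Nat.card H) (Z : Subgroup H) [Z.Normal] :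
    ∃ χ' : H ⧸ Z → ℂ, IsIrrCharacter (H ⧸ Z) χ' ∧
      ∀ P : Sylow p (H ⧸ Z), χ' 1 = Nat.card P ∧ ∀ x : H ⧸ Z, x ∈ P → x ≠ 1 → χ' x = 0 :=
  exists_on_quotient (n := 0) (χ := fun _ => 1) isIrrCharacter_one (by simp) (by simpa using hp) Z fun _ _ => rfl

variable {G : Type u} [Group G] [Finite G]

/-- Central elements of a subgroup of the derived group are in the kernel. -/
theorem center_trivial {p n : ℕ} [Fact p.Prime] {N : Subgroup G} (hN : N ≤ commutator G) {χ : G → ℂ}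
    (hG : IsIrrCharacter G χ) (hres : IsIrrCharacter N fun k : N => χ k) (hdeg : χ 1 = ((p ^ n : ℕ) : ℂ))
    (hn : ¬ p ^ (n + 1) ∣ Nat.card N) {z : N} (hz : z ∈ Subgroup.center N) : χ z = χ 1 := by
  obtain ⟨d, ρ, -, rfl⟩ := hG
  obtain ⟨d', σ, hσ, hch⟩ := hres
  haveI := hσ
  obtain ⟨lam, hlam⟩ := exists_central_hom σ
  obtain ⟨c, hc⟩ : ∃ c : ℂ, c = (lam ⟨z, hz⟩ : ℂ) := ⟨_, rfl⟩
  have hdd : (d' : ℂ) = d := by
    have := congrFun hch 1
    simpa [Representation.char_one] using this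
  have hd' : d' = p ^ n := by
    rw [Representation.char_one, Module.finrank_fin_fun] at hdeg
    exact_mod_cast hdd.trans hdeg
  have hval : ρ.character (z : G) = c * d := by
    rw [← congrFun hch z]
    show LinearMap.trace ℂ _ (σ z) = _
    rw [hlam ⟨z, hz⟩, trace_smul_id, Module.finrank_fin_fun, ← hdd, hc]
  have hc1 : c ^ orderOf z = 1 := by
    rw [hc, ← Units.val_pow_eq_pow_val, ← map_pow,
      show (⟨z, hz⟩ : Subgroup.center N) ^ orderOf z = 1 from Subtype.ext (pow_orderOf_eq_one z), map_one, Units.val_one]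
  -- no central element of order divisible by `p`
  have hcop : (orderOf z).Coprime (p ^ n) := by
    refine Nat.Coprime.pow_right n (Nat.Coprime.symm ((Fact.out : p.Prime).coprime_iff_not_dvd.2 fun hd => ?_))
    have hN' : p ^ n ∣ Nat.card N := hd' ▸ degree_dvd_card ⟨_, ⟨d', σ, hσ, rfl⟩⟩
      (show σ.character 1 = ((d' : ℕ) : ℂ) by rw [Representation.char_one, Module.finrank_fin_fun])
    have h0 := char_defect_zero_vanishes ⟨σ.character, ⟨d', σ, hσ, rfl⟩⟩ hN' hn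
      (show σ.character 1 = ((d' : ℕ) : ℂ) by rw [Representation.char_one, Module.finrank_fin_fun])
      (hd' ▸ dvd_rfl) hd
    have h1 : σ.character z = c * d' := by
      show LinearMap.trace ℂ _ (σ z) = _
      rw [hlam ⟨z, hz⟩, trace_smul_id, Module.finrank_fin_fun, hc]
    have h0' : c * (d' : ℂ) = 0 := h1.symm.trans h0
    refine (mul_ne_zero (fun e => ?_) ?_) h0'
    · rw [e, zero_pow (orderOf_pos z).ne'] at hc1
      exact zero_ne_one hc1
    · rw [Nat.cast_ne_zero, hd']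
      exact (pow_pos (Fact.out : p.Prime).pos n).ne'
  -- the determinant kills the derived group
  obtain ⟨δ, hδ⟩ : ∃ δ : G →* ℂˣ, ∀ g, (δ g : ℂ) = LinearMap.det (ρ g) :=
    ⟨((LinearMap.det : Module.End ℂ (Fin d → ℂ) →* ℂ).comp ρ).toHomUnits, fun g => rfl⟩
  have hdet1 : LinearMap.det (ρ z) = 1 := by
    rw [← hδ, MonoidHom.mem_ker.1 (Abelianization.commutator_subset_ker δ (hN z.2)), Units.val_one]
  have hcd : c ^ d = 1 := by
    have hρz : ρ z = c • LinearMap.id := by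
      obtain ⟨ω, hω⟩ := (norm_char_eq_iff ρ (z : G)).1 (by
        rw [hval, norm_mul, norm_eq_one_of_pow_eq_one' (orderOf_pos z).ne' hc1, one_mul, Complex.norm_natCast,
          Module.finrank_fin_fun])
      have h2 : ρ.character (z : G) = ω * d := by
        show LinearMap.trace ℂ _ (ρ z) = _
        rw [hω, trace_smul_id, Module.finrank_fin_fun]
      rw [hω, mul_right_cancel₀ (by
        rw [← hdd, Nat.cast_ne_zero, hd']
        exact (pow_pos (Fact.out : p.Prime).pos n).ne') (h2.symm.trans hval)]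
    rw [hρz, LinearMap.det_smul, LinearMap.det_id, mul_one, Module.finrank_fin_fun] at hdet1
    exact hdet1
  have hdn : d = p ^ n := by
    rw [← hd']
    exact_mod_cast hdd.symm
  have hone : c = 1 := by
    have := pow_gcd_eq_one.2 ⟨hc1, (hdn ▸ hcd : c ^ p ^ n = 1)⟩
    rwa [Nat.Coprime.gcd_eq_one hcop, pow_one] at this
  rw [hval, hone, one_mul, Representation.char_one, Module.finrank_fin_fun]

end CfsgLib.Char.PolarSteinberg
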