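import Cfsg.Agent.Lib.Char.PolarSteinberg.Inj
import Mathlib.GroupTheory.Perm.Sign
import Mathlib.LinearAlgebra.LinearIndependent.Lemmas

/-!
# Frames and apartment cycles
-/

set_option autoImplicit false
set_option linter.unusedSectionVars false

namespace CfsgLib.Char.PolarSteinberg

open Module Finset

universe u v

namespace Pol

variable {F : Type u} {V : Type v} [Field F] [AddCommGroup V] [Module F V] (P : Pol F V)

/-- A hyperbolic frame. -/
structure IsFrame {r : ℕ} (e f : Fin r → V) : Prop where
  sing_e : ∀ i, P.sing (e i)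
  sing_f : ∀ i, P.sing (f i)
  br_ee : ∀ i j, P.br (e i) (e j) = 0
  br_ff : ∀ i j, P.br (f i) (f j) = 0
  br_ef : ∀ i j, P.br (e i) (f j) = if i = j then 1 else 0

/-- The flag of initial spans of a tuple. -/
def flag (F : Type u) {V : Type v} [Field F] [AddCommGroup V] [Module F V] {r : ℕ} (g : Fin r → V) :
    List (Submodule F V) :=
  List.ofFn fun i => Submodule.span F (g '' Set.Iic i)

variable [FiniteDimensional F V]

theorem chn_ofFn : ∀ (n : ℕ) (X : Submodule F V) (L : Fin n → Submodule F V),
    (∀ i : Fin n, P.Cover ((Fin.cons X L : Fin (n + 1) → Submodule F V) i.castSucc) (L i)) → P.Chn X (List.ofFn L)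
  | 0, X, L, _ => by rw [List.ofFn_zero]; trivial
  | n + 1, X, L, h => by
    rw [List.ofFn_succ]
    refine ⟨by simpa using h 0, chn_ofFn n (L 0) _ fun i => ?_⟩
    have h1 := h i.succ
    rw [← Fin.succ_castSucc, Fin.cons_succ] at h1
    rw [show ((Fin.cons (L 0) fun i => L i.succ : Fin (n + 1) → Submodule F V)) = L from Fin.cons_self_tail L]
    exact h1

theorem flag_length {r : ℕ} (g : Fin r → V) : (flag F g).length = r := List.length_ofFn

theorem chn_flag {r : ℕ} (g : Fin r → V) (hs : ∀ i, P.sing (g i)) (hb : ∀ i j, P.br (g i) (g j) = 0)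
    (hli : LinearIndependent F g) : P.Chn ⊥ (flag F g) := by
  have hts : ∀ S : Set (Fin r), P.IsTS (Submodule.span F (g '' S)) := fun S => P.isTS_span
    (fun x hx => by obtain ⟨i, -, rfl⟩ := hx; exact hs i)
    (fun x hx y hy => by obtain ⟨i, -, rfl⟩ := hx; obtain ⟨j, -, rfl⟩ := hy; exact hb i j)
  refine P.chn_ofFn r ⊥ _ fun i => ?_
  have hprev : (Fin.cons ⊥ (fun i => Submodule.span F (g '' Set.Iic i)) : Fin (r + 1) → Submodule F V) i.castSucc =
      Submodule.span F (g '' Set.Iio i) := by
    cases r with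
    | zero => exact i.elim0
    | succ n =>
      induction i using Fin.cases with
      | zero =>
        rw [Fin.castSucc_zero, Fin.cons_zero,
          show Set.Iio (0 : Fin (n + 1)) = ∅ from Set.eq_empty_iff_forall_notMem.2 fun x hx => absurd hx (by simp),
          Set.image_empty, Submodule.span_empty]
      | succ j =>
        rw [← Fin.succ_castSucc, Fin.cons_succ,
          show Set.Iic j.castSucc = Set.Iio j.succ from Set.ext fun x => (Fin.le_castSucc_iff).trans Iff.rfl]
  rw [hprev]
  have hsplit : Submodule.span F (g '' Set.Iic i) = Submodule.span F (g '' Set.Iio i) ⊔ Submodule.span F {g i} := by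
    rw [← Submodule.span_union, ← Set.image_singleton, ← Set.image_union,
      show Set.Iio i ∪ {i} = Set.Iic i from Set.ext fun x => by simp [le_iff_lt_or_eq]]
  refine ⟨hsplit ▸ le_sup_left, ?_, hts _⟩
  rw [hsplit, Submodule.finrank_sup_span_singleton (hli.notMem_span_image (by simp))]

variable {P}
variable {r : ℕ} {e f : Fin r → V}

theorem IsFrame.br_fe (h : P.IsFrame e f) (i j : Fin r) : P.br (f i) (e j) = 0 ↔ i ≠ j := by
  rw [P.br_comm_zero, h.br_ef]
  by_cases hij : i = j <;> simp [hij, Ne.symm, eq_comm]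

/-- Vectors of a frame picked by signs. -/
def pick (e f : Fin r → V) (ε : Fin r → Bool) (i : Fin r) : V := if ε i then f i else e i

theorem IsFrame.pick_data (h : P.IsFrame e f) (σ : Equiv.Perm (Fin r)) (ε : Fin r → Bool) :
    (∀ j, P.sing (pick e f ε (σ j))) ∧ (∀ i j, P.br (pick e f ε (σ i)) (pick e f ε (σ j)) = 0) ∧
      LinearIndependent F (fun j => pick e f ε (σ j)) := by
  have h0 : ∀ a b, P.br (pick e f ε a) (pick e f ε b) = 0 := fun a b => by
    unfold pick
    by_cases hab : a = b
    · subst hab
      split_ifs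
      · exact h.br_ff a a
      · exact h.br_ee a a
    · split_ifs
      · exact h.br_ff a b
      · exact (h.br_fe a b).2 hab
      · rw [h.br_ef, if_neg hab]
      · exact h.br_ee a b
  refine ⟨fun j => by unfold pick; split_ifs; exacts [h.sing_f _, h.sing_e _], fun i j => h0 _ _, ?_⟩
  suffices hli : LinearIndependent F (pick e f ε) from hli.comp σ σ.injective
  refine Fintype.linearIndependent_iff.2 fun a ha k => ?_
  have h1 := congrArg (P.br (pick e f (fun i => !ε i) k)) ha
  rw [map_zero, map_sum, Finset.sum_eq_single k (fun b _ hb => ?_) (fun hk => absurd (Finset.mem_univ k) hk),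
    map_smul, smul_eq_mul] at h1
  · refine (mul_eq_zero.1 h1).resolve_right ?_
    unfold pick
    cases hε : ε k <;> simp [hε, h.br_ef, h.br_fe]
  · rw [map_smul]
    have : P.br (pick e f (fun i => !ε i) k) (pick e f ε b) = 0 := by
      unfold pick
      split_ifs
      · exact h.br_ff k b
      · exact (h.br_fe k b).2 (Ne.symm hb)
      · rw [h.br_ef, if_neg (Ne.symm hb)]
      · exact h.br_ee k b
    rw [this, smul_zero]

theorem IsFrame.chn_pick (h : P.IsFrame e f) (σ : Equiv.Perm (Fin r)) (ε : Fin r → Bool) :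
    P.Chn ⊥ (flag F fun j => pick e f ε (σ j)) :=
  have hd := h.pick_data σ ε
  P.chn_flag _ hd.1 hd.2.1 hd.2.2

theorem IsFrame.chn_e (h : P.IsFrame e f) : P.Chn ⊥ (flag F e) := h.chn_pick 1 fun _ => false

theorem IsFrame.chn_f (h : P.IsFrame e f) : P.Chn ⊥ (flag F f) := h.chn_pick 1 fun _ => true

theorem opp_flag_iff {g g' : Fin r → V} :
    P.Opp (flag F g) (flag F g') ↔
      ∀ i, Submodule.span F (g' '' Set.Iic i) ⊓ P.perp (Submodule.span F (g '' Set.Iic i)) = ⊥ := by
  rw [Opp, List.forall₂_iff_get]
  simp only [flag_length, true_and]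
  constructor
  · intro h i
    simpa [flag] using h i.1 i.2 i.2
  · intro h i h1 h2
    simpa [flag] using h ⟨i, h1⟩

/-- Within an apartment a single chamber is opposite to the chamber of `e`. -/
theorem IsFrame.eq_of_opp (h : P.IsFrame e f) {σ : Equiv.Perm (Fin r)} {ε : Fin r → Bool}
    (ho : P.Opp (flag F e) (flag F fun j => pick e f ε (σ j))) : σ = 1 ∧ ε = fun _ => true := by
  rw [opp_flag_iff] at ho
  have key : ∀ j i, j ≤ i → ε (σ j) = true ∧ σ j ≤ i := by
    intro j i hji
    have hne : pick e f ε (σ j) ≠ 0 := fun e0 => by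
      have := (h.pick_data σ ε).2.2.ne_zero j
      exact this e0
    by_contra hcon
    have hmem : pick e f ε (σ j) ∈ Submodule.span F ((fun j => pick e f ε (σ j)) '' Set.Iic i) ⊓
        P.perp (Submodule.span F (e '' Set.Iic i)) := by
      refine ⟨Submodule.subset_span ⟨j, hji, rfl⟩, P.mem_perp_span.2 ?_⟩
      rintro _ ⟨k, hk, rfl⟩
      unfold pick
      split_ifs with hb
      · refine (h.br_fe _ _).2 fun e0 => hcon ⟨hb, e0.le.trans hk⟩
      · exact h.br_ee _ _
    rw [ho i, Submodule.mem_bot] at hmem
    exact hne hmem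
  have hσ : ∀ j, σ j = j := by
    intro j
    induction hn : j.1 using Nat.strong_induction_on generalizing j with
    | _ n ih =>
      refine le_antisymm (key j j le_rfl).2 (not_lt.1 fun hlt => ?_)
      have := σ.injective (ih (σ j).1 (hn ▸ hlt) (σ j) rfl)
      exact hlt.ne this
  refine ⟨Equiv.ext hσ, funext fun j => ?_⟩
  have := (key j j le_rfl).1
  rwa [hσ] at this

open scoped Classical in
/-- The apartment cycle. -/
noncomputable def apt (F : Type u) {V : Type v} [Field F] [AddCommGroup V] [Module F V] {r : ℕ} (e f : Fin r → V)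
    (l : List (Submodule F V)) : ℂ :=
  ∑ p : Equiv.Perm (Fin r) × (Fin r → Bool),
    if l = flag F (fun j => pick e f p.2 (p.1 j)) then
      ((Equiv.Perm.sign p.1 : ℤ) : ℂ) * ∏ i, (if p.2 i then 1 else -1) else 0

theorem apt_isCycle [Finite V] (e f : Fin r → V) : IsCycle (apt F e f) := by
  classical
  intro l₁ l₂
  haveI : Finite (Submodule F V) := Finite.of_injective (fun X : Submodule F V => (X : Set V)) SetLike.coe_injective
  haveI := Fintype.ofFinite (Submodule F V)
  obtain ⟨L, hL⟩ : ∃ L : Equiv.Perm (Fin r) × (Fin r → Bool) → List (Submodule F V),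
      L = fun p => flag F (fun j => pick e f p.2 (p.1 j)) := ⟨_, rfl⟩
  obtain ⟨s, hs⟩ : ∃ s : Equiv.Perm (Fin r) × (Fin r → Bool) → ℂ,
      s = fun p => ((Equiv.Perm.sign p.1 : ℤ) : ℂ) * ∏ i, (if p.2 i then 1 else -1) := ⟨_, rfl⟩
  obtain ⟨i, hi⟩ : ∃ i, i = l₁.length := ⟨_, rfl⟩
  have hlen : ∀ p, (L p).length = r := fun p => hL ▸ flag_length _
  have hin : ∀ p, ∑ Y : Submodule F V, (if l₁ ++ Y :: l₂ = L p then s p else 0) =
      if i < r ∧ (L p).take i = l₁ ∧ (L p).drop (i + 1) = l₂ then s p else 0 := by
    intro p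
    split_ifs with hc
    · obtain ⟨hir, h1, h2⟩ := hc
      have hget : l₁ ++ (L p)[i]'(by rw [hlen]; exact hir) :: l₂ = L p := by
        conv_rhs => rw [← List.take_append_drop i (L p)]
        rw [h1, List.drop_eq_getElem_cons (by rw [hlen]; exact hir), h2]
      rw [Finset.sum_eq_single ((L p)[i]'(by rw [hlen]; exact hir)) (fun Y _ hY => if_neg fun e0 => hY ?_)
        (fun h => absurd (Finset.mem_univ _) h), if_pos hget]
      exact (List.cons.inj (List.append_cancel_left (e0.trans hget.symm))).1
    · refine Finset.sum_eq_zero fun Y _ => if_neg fun e0 => hc ?_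
      refine ⟨?_, ?_, ?_⟩
      · have := congrArg List.length e0
        rw [hlen, List.length_append, List.length_cons] at this
        omega
      · rw [← e0, hi, List.take_left]
      · rw [← e0, hi, List.drop_append, List.drop_eq_nil_of_le (by omega)]
        simp
  have e1 : ∀ Y, apt F e f (l₁ ++ Y :: l₂) = ∑ p, if l₁ ++ Y :: l₂ = L p then s p else 0 := fun Y => by
    simp only [apt, hL, hs]
  rw [finsum_eq_sum_of_fintype, Finset.sum_congr rfl fun Y _ => e1 Y, Finset.sum_comm,
    Finset.sum_congr rfl fun p _ => hin p]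
  by_cases hir : i < r
  swap
  · exact Finset.sum_eq_zero fun p _ => if_neg fun h => hir h.1
  -- a sign reversing bijection keeping the flag outside the place `i`
  obtain ⟨ι, hι, hagree, hsgn⟩ : ∃ ι : Equiv.Perm (Equiv.Perm (Fin r) × (Fin r → Bool)), True ∧
      (∀ p (k : Fin r), k.1 ≠ i → (fun j => pick e f (ι p).2 ((ι p).1 j)) '' Set.Iic k =
        (fun j => pick e f p.2 (p.1 j)) '' Set.Iic k) ∧ ∀ p, s (ι p) = -s p := by
    by_cases hlast : i + 1 < r
    · let τ : Equiv.Perm (Fin r) := Equiv.swap ⟨i, hir⟩ ⟨i + 1, hlast⟩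
      refine ⟨(Equiv.mulRight τ).prodCongr (Equiv.refl _), trivial, fun p k hk => ?_, fun p => ?_⟩
      · have hτ : τ '' Set.Iic k = Set.Iic k := by
          have hmem : ∀ x, τ x ≤ k ↔ x ≤ k := fun x => by
            rcases eq_or_ne x ⟨i, hir⟩ with rfl | h1
            · rw [Equiv.swap_apply_left, Fin.le_def, Fin.le_def]
              show i + 1 ≤ k.1 ↔ i ≤ k.1
              omega
            rcases eq_or_ne x ⟨i + 1, hlast⟩ with rfl | h2
            · rw [Equiv.swap_apply_right, Fin.le_def, Fin.le_def]
              show i ≤ k.1 ↔ i + 1 ≤ k.1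
              omega
            · rw [Equiv.swap_apply_of_ne_of_ne h1 h2]
          ext x
          rw [Equiv.image_eq_preimage_symm, Set.mem_preimage, Set.mem_Iic, Set.mem_Iic, Equiv.symm_swap, hmem]
        conv_rhs => rw [← hτ, Set.image_image]
        rfl
      · subst hs
        show ((Equiv.Perm.sign (p.1 * τ) : ℤ) : ℂ) * _ = _
        rw [map_mul, Equiv.Perm.sign_swap (fun e0 => by simpa using congrArg Fin.val e0)]
        simp
    · have hinv : Function.Involutive fun p : Equiv.Perm (Fin r) × (Fin r → Bool) =>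
          ((p.1, Function.update p.2 (p.1 ⟨i, hir⟩) (!p.2 (p.1 ⟨i, hir⟩))) :
            Equiv.Perm (Fin r) × (Fin r → Bool)) := fun p => by simp
      refine ⟨hinv.toPerm, trivial, fun p k hk => Set.image_congr fun j hj => ?_, fun p => ?_⟩
      · have hne : p.1 j ≠ p.1 ⟨i, hir⟩ := fun e0 => by
          have h1 := congrArg Fin.val (p.1.injective e0)
          have h2 : j.1 ≤ k.1 := Fin.le_def.1 hj
          have h3 := k.2
          simp only at h1
          omega
        simp only [Function.Involutive.coe_toPerm, pick, Function.update_of_ne hne]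
      · subst hs
        have hflip : ∀ (ε : Fin r → Bool) a,
            (∏ j, if Function.update ε a (!ε a) j then (1 : ℂ) else -1) = -∏ j, if ε j then (1 : ℂ) else -1 := by
          intro ε a
          rw [show (fun j => if Function.update ε a (!ε a) j then (1 : ℂ) else -1) =
              Function.update (fun j => if ε j then (1 : ℂ) else -1) a (-(if ε a then (1 : ℂ) else -1)) from
            funext fun j => by
              rcases eq_or_ne j a with rfl | hj
              · simp only [Function.update_self]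
                cases ε j <;> simp
              · simp only [Function.update_of_ne hj],
            Finset.prod_update_of_mem (Finset.mem_univ a), neg_mul,
            ← Finset.prod_eq_mul_prod_sdiff_singleton_of_mem (Finset.mem_univ a) (fun j => if ε j then (1 : ℂ) else -1)]
        show _ * _ = -(_ * _)
        rw [← mul_neg, ← hflip p.2 (p.1 ⟨i, hir⟩)]
        rfl
  clear hι
  have htk : ∀ p, (L (ι p)).take i = (L p).take i ∧ (L (ι p)).drop (i + 1) = (L p).drop (i + 1) := fun p => by
    subst hL
    refine ⟨List.ext_getElem (by simp [flag_length]) fun n h1 h2 => ?_,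
      List.ext_getElem (by simp [flag_length]) fun n h1 h2 => ?_⟩
    · simp only [List.length_take, flag_length] at h1
      simp only [flag, List.getElem_take, List.getElem_ofFn]
      rw [hagree p ⟨n, by omega⟩ (by show n ≠ i; omega)]
    · simp only [List.length_drop, flag_length] at h1
      simp only [flag, List.getElem_drop, List.getElem_ofFn]
      rw [hagree p ⟨i + 1 + n, by omega⟩ (by show i + 1 + n ≠ i; omega)]
  have key := Equiv.sum_comp ι fun p =>
    if i < r ∧ (L p).take i = l₁ ∧ (L p).drop (i + 1) = l₂ then s p else (0 : ℂ)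
  simp only [(htk _).1, (htk _).2, hsgn] at key
  have hneg : ∀ p, (if i < r ∧ (L p).take i = l₁ ∧ (L p).drop (i + 1) = l₂ then -s p else (0 : ℂ)) =
      -(if i < r ∧ (L p).take i = l₁ ∧ (L p).drop (i + 1) = l₂ then s p else 0) := fun p => by
    split_ifs <;> simp
  rw [Finset.sum_congr rfl fun p _ => hneg p, Finset.sum_neg_distrib] at key
  linear_combination (-(1 : ℂ) / 2) * key

theorem IsFrame.supp_apt (h : P.IsFrame e f) : P.Supp ⊥ r (apt F e f) := fun l hl => by
  by_contra hn
  refine hl (Finset.sum_eq_zero fun p _ => if_neg fun e0 => hn ?_)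
  rw [e0]
  exact ⟨flag_length _, h.chn_pick p.1 p.2⟩

theorem IsFrame.apt_opp (h : P.IsFrame e f) {l : List (Submodule F V)} (ho : P.Opp (flag F e) l) :
    (l = flag F f → apt F e f l = 1) ∧ (l ≠ flag F f → apt F e f l = 0) := by
  classical
  refine ⟨fun hl => ?_, fun hl => Finset.sum_eq_zero fun p _ => if_neg fun e0 => hl ?_⟩
  · unfold apt
    rw [Finset.sum_eq_single (1, fun _ => true) (fun p _ hp => if_neg fun e0 => hp ?_)
      (fun hc => absurd (Finset.mem_univ _) hc), if_pos (by simpa [pick] using hl)]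
    · simp
    · obtain ⟨h1, h2⟩ := h.eq_of_opp (e0 ▸ ho)
      exact Prod.ext h1 h2
  · obtain ⟨h1, h2⟩ := h.eq_of_opp (e0 ▸ ho)
    simpa [h1, h2, pick] using e0

end Pol

end CfsgLib.Char.PolarSteinberg
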