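import Cfsg.Agent.Lib.Char.PolarSteinberg.Inj
import Mathlib.LinearAlgebra.FiniteDimensional.Basic
import Mathlib.FieldTheory.Finiteness

/-!
# The number of chambers opposite to a given one
-/

set_option autoImplicit false
set_option linter.unusedSectionVars false

namespace CfsgLib.Char.PolarSteinberg

open Module

universe u v

namespace Pol

variable {F : Type u} {V : Type v} [Field F] [AddCommGroup V] [Module F V] {P : Pol F V}
variable [Finite F] [FiniteDimensional F V]

/-- The opposite covers of a subspace. -/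
theorem card_good {Cj C' X : Submodule F V} (hC : P.Cover Cj C') (hd : finrank F Cj = finrank F X)
    (hX : P.IsTS X) (ho : X ⊓ P.perp Cj = ⊥) :
    Nat.card {Y // P.Cover X Y ∧ Y ⊓ P.perp C' = ⊥} * Nat.card F ^ (2 * finrank F X + 2) =
      P.N * Nat.card F ^ finrank F V := by
  haveI : Finite V := Module.finite_of_finite F
  obtain ⟨c, -, hc, hcX, hn, hnC, hcC, hC'⟩ := exists_next hC hd ho
  obtain ⟨W, hW⟩ : ∃ W, W = P.perp X ⊓ P.perp Cj := ⟨_, rfl⟩
  have hinf : X ⊓ Cj = ⊥ := by
    refine eq_bot_iff.2 (le_trans (inf_le_inf le_rfl ?_) ho.le)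
    exact (hC.ts.mono hC.le).le_perp
  have hWr : finrank F W + 2 * finrank F X = finrank F V := by
    have h1 := Submodule.finrank_sup_add_finrank_inf_eq X Cj
    rw [hinf, finrank_bot] at h1
    have h2 := P.finrank_perp (X ⊔ Cj)
    rw [P.perp_sup, ← hW] at h2
    omega
  have hcW : c ∈ W := hW ▸ ⟨hcX, hcC⟩
  -- the functional of `c` on `W` is nonzero
  obtain ⟨v₁, hv₁, hcv₁⟩ : ∃ v₁ ∈ W, P.br c v₁ = 1 := by
    obtain ⟨v, hv, hcv⟩ : ∃ v ∈ W, P.br c v ≠ 0 := by
      by_contra hcon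
      push Not at hcon
      have hmem : c ∈ P.perp W := (P.mem_perp').2 hcon
      rw [hW, ← P.perp_sup, P.perp_perp] at hmem
      obtain ⟨x, hx, y, hy, hxy⟩ := Submodule.mem_sup.1 hmem
      have hxP : x ∈ P.perp Cj := by
        rw [show x = c - y by rw [← hxy]; abel]
        exact Submodule.sub_mem _ hcC ((hC.ts.mono hC.le).le_perp hy)
      have hx0 : x = 0 := (Submodule.mem_bot F).1 (ho ▸ ⟨hx, hxP⟩)
      rw [hx0, zero_add] at hxy
      exact hnC (hxy ▸ hy)
    exact ⟨(P.br c v)⁻¹ • v, W.smul_mem _ hv, by rw [map_smul, smul_eq_mul, inv_mul_cancel₀ hcv]⟩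
  -- the affine hyperplane and its singular points
  let H := {v : V // v ∈ W ∧ P.br c v = 1}
  let S := {v : V // v ∈ W ∧ P.br c v = 1 ∧ P.sing v}
  have hH : Nat.card H * Nat.card F = Nat.card W := by
    rw [← Nat.card_prod]
    exact Nat.card_congr
      { toFun := fun p => ⟨p.1.1 + (p.2 - 1) • v₁, W.add_mem p.1.2.1 (W.smul_mem _ hv₁)⟩
        invFun := fun w => (⟨w.1 + (1 - P.br c w.1) • v₁, W.add_mem w.2 (W.smul_mem _ hv₁),
          by rw [map_add, map_smul, hcv₁, smul_eq_mul]; ring⟩, P.br c w.1)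
        left_inv := fun p => by
          have h : P.br c (p.1.1 + (p.2 - 1) • v₁) = p.2 := by
            rw [map_add, map_smul, hcv₁, p.1.2.2, smul_eq_mul]; ring
          refine Prod.ext (Subtype.ext ?_) h
          show p.1.1 + (p.2 - 1) • v₁ + (1 - P.br c (p.1.1 + (p.2 - 1) • v₁)) • v₁ = p.1.1
          rw [h]
          module
        right_inv := fun w => Subtype.ext (by
          show w.1 + (1 - P.br c w.1) • v₁ + (P.br c w.1 - 1) • v₁ = w.1
          module) }
  have hcc : P.br c c = 0 := P.sing_self c hc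
  have hS : Nat.card S * Nat.card F = Nat.card H * P.N := by
    have e : (Σ h : H, {a : F // P.sing (h.1 + a • c)}) ≃ S × F :=
      { toFun := fun x => (⟨x.1.1 + x.2.1 • c, W.add_mem x.1.2.1 (W.smul_mem _ hcW),
          by rw [map_add, map_smul, hcc, smul_zero, add_zero, x.1.2.2], x.2.2⟩, x.2.1)
        invFun := fun p => ⟨⟨p.1.1 + (-p.2) • c, W.add_mem p.1.2.1 (W.smul_mem _ hcW),
          by rw [map_add, map_smul, hcc, smul_zero, add_zero, p.1.2.2.1]⟩, p.2, by
            show P.sing (p.1.1 + (-p.2) • c + p.2 • c)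
            rw [add_assoc, ← add_smul, neg_add_cancel, zero_smul, add_zero]
            exact p.1.2.2.2⟩
        left_inv := fun x => by
          refine Sigma.subtype_ext (Subtype.ext ?_) rfl
          show x.1.1 + x.2.1 • c + (-x.2.1) • c = x.1.1
          module
        right_inv := fun p => Prod.ext (Subtype.ext (by
          show p.1.1 + (-p.2) • c + p.2 • c = p.1.1
          module)) rfl }
    haveI := Fintype.ofFinite H
    rw [← Nat.card_prod, ← Nat.card_congr e, Nat.card_sigma,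
      Finset.sum_congr rfl fun h _ => P.count c h.1 hc h.2.2, Finset.sum_const, Finset.card_univ, smul_eq_mul,
      Nat.card_eq_fintype_card]
  -- singular points of the hyperplane are the opposite covers
  have hY : ∀ v : S, P.Cover X (X ⊔ Submodule.span F {v.1}) ∧
      (X ⊔ Submodule.span F {v.1}) ⊓ P.perp C' = ⊥ := fun v => by
    have hvX : v.1 ∈ P.perp X := (hW ▸ v.2.1 : v.1 ∈ P.perp X ⊓ P.perp Cj).1
    have hvn : v.1 ∉ X := fun h => one_ne_zero (v.2.2.1.symm.trans (P.refl _ _ (hcX _ h)))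
    have hcov : P.Cover X (X ⊔ Submodule.span F {v.1}) :=
      ⟨le_sup_left, Submodule.finrank_sup_span_singleton hvn, hX.sup_span v.2.2.2 hvX⟩
    refine ⟨hcov, hC' ▸ (opp_iff_exists hd ho hcX hcov).2
      ⟨v.1, Submodule.mem_sup_right (Submodule.mem_span_singleton_self _), ?_⟩⟩
    rw [v.2.2.1]; exact one_ne_zero
  let Φ : S → {Y // P.Cover X Y ∧ Y ⊓ P.perp C' = ⊥} := fun v => ⟨_, hY v⟩
  have hΦ : Function.Bijective Φ := by
    refine ⟨fun v v' h => Subtype.ext ?_, fun ⟨Y, hcov, hg⟩ => ?_⟩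
    · have hm : v'.1 ∈ X ⊔ Submodule.span F {v.1} := by
        show v'.1 ∈ (Φ v).1
        rw [congrArg Subtype.val h]
        exact Submodule.mem_sup_right (Submodule.mem_span_singleton_self _)
      obtain ⟨x, hx, z, hz, hxz⟩ := Submodule.mem_sup.1 hm
      obtain ⟨a, rfl⟩ := Submodule.mem_span_singleton.1 hz
      have h1 : ∀ w : S, w.1 ∈ P.perp Cj := fun w => (hW ▸ w.2.1 : w.1 ∈ P.perp X ⊓ P.perp Cj).2
      have hxP : x ∈ P.perp Cj := by
        rw [show x = v'.1 - a • v.1 by rw [← hxz]; abel]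
        exact Submodule.sub_mem _ (h1 v') (Submodule.smul_mem _ a (h1 v))
      rw [(Submodule.mem_bot F).1 (ho ▸ ⟨hx, hxP⟩ : x ∈ (⊥ : Submodule F V)), zero_add] at hxz
      have := congrArg (P.br c) hxz
      rw [map_smul, v.2.2.1, v'.2.2.1, smul_eq_mul, mul_one] at this
      rw [← hxz, this, one_smul]
    · have hne : Y ⊓ P.perp Cj ≠ ⊥ := by
        intro e0
        have h1 := Submodule.finrank_sup_add_finrank_inf_eq Y (P.perp Cj)
        rw [e0, finrank_bot] at h1
        have h2 := P.finrank_perp Cj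
        have h3 := (Y ⊔ P.perp Cj).finrank_le
        have h4 := hcov.rank
        omega
      obtain ⟨w, ⟨hwY, hwC⟩, hw0⟩ := Submodule.exists_mem_ne_zero_of_ne_bot hne
      have hcw : P.br c w ≠ 0 := fun e0 => hw0 ((Submodule.mem_bot F).1 (hg ▸ ⟨hwY, by
        rw [hC', P.perp_sup]
        exact ⟨hwC, P.mem_perp_singleton.2 e0⟩⟩))
      have hwW : w ∈ W := hW ▸ ⟨P.perp_antitone hcov.le (hcov.ts.le_perp hwY), hwC⟩
      have hwX : (P.br c w)⁻¹ • w ∉ X := fun h => by
        have := P.refl _ _ (hcX _ h)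
        rw [map_smul, smul_eq_mul, inv_mul_cancel₀ hcw] at this
        exact one_ne_zero this
      refine ⟨⟨(P.br c w)⁻¹ • w, W.smul_mem _ hwW, by rw [map_smul, smul_eq_mul, inv_mul_cancel₀ hcw],
        P.sing_smul _ _ (hcov.ts.sing w hwY)⟩, Subtype.ext ?_⟩
      refine Submodule.eq_of_le_of_finrank_le
        (sup_le hcov.le ((Submodule.span_singleton_le_iff_mem _ _).2 (Y.smul_mem _ hwY))) ?_
      rw [Submodule.finrank_sup_span_singleton hwX, hcov.rank]
  rw [← Nat.card_eq_of_bijective Φ hΦ]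
  calc Nat.card S * Nat.card F ^ (2 * finrank F X + 2)
      = Nat.card S * Nat.card F * Nat.card F * Nat.card F ^ (2 * finrank F X) := by
        rw [pow_succ, pow_succ]; ring
    _ = P.N * (Nat.card H * Nat.card F) * Nat.card F ^ (2 * finrank F X) := by rw [hS]; ring
    _ = P.N * Nat.card F ^ finrank F V := by
        rw [hH, Module.natCard_eq_pow_finrank (K := F) (V := W), mul_assoc, ← pow_add, hWr]

/-- The chains opposite to a given chain. -/
theorem card_opp : ∀ (Cs : List (Submodule F V)) (Cj X : Submodule F V),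
    P.Chn Cj Cs → finrank F Cj = finrank F X → P.IsTS X → X ⊓ P.perp Cj = ⊥ →
    Nat.card {l // P.Chn X l ∧ P.Opp Cs l} * Nat.card F ^ (Cs.length * (2 * finrank F X + Cs.length + 1)) =
      P.N ^ Cs.length * Nat.card F ^ (Cs.length * finrank F V) := by
  intro Cs
  induction Cs with
  | nil =>
    intro Cj X _ _ _ _
    haveI : Unique {l // P.Chn X l ∧ P.Opp [] l} :=
      ⟨⟨⟨[], trivial, P.opp_nil⟩⟩, fun l => Subtype.ext (List.forall₂_nil_left_iff.1 l.2.2)⟩
    simp
  | cons C' Cs ih =>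
    intro Cj X hC hd hX ho
    haveI : Finite V := Module.finite_of_finite F
    haveI : Finite (Submodule F V) := Finite.of_injective (fun Y : Submodule F V => (Y : Set V)) SetLike.coe_injective
    let Good := {Y // P.Cover X Y ∧ Y ⊓ P.perp C' = ⊥}
    have hrest : ∀ Y : Good, Nat.card {t // P.Chn Y.1 t ∧ P.Opp Cs t} *
        Nat.card F ^ (Cs.length * (2 * (finrank F X + 1) + Cs.length + 1)) =
          P.N ^ Cs.length * Nat.card F ^ (Cs.length * finrank F V) := fun Y => by
      have r1 := hC.1.rank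
      have r2 := Y.2.1.rank
      have := ih C' Y.1 hC.2 (by omega) Y.2.1.ts Y.2.2
      rwa [r2] at this
    haveI : ∀ Y : Good, Finite {t // P.Chn Y.1 t ∧ P.Opp Cs t} := fun Y =>
      Set.Finite.to_subtype ((List.finite_length_eq (Submodule F V) Cs.length).subset fun t ht => ht.2.length_eq.symm)
    let Φ : (Σ Y : Good, {t // P.Chn Y.1 t ∧ P.Opp Cs t}) → {l // P.Chn X l ∧ P.Opp (C' :: Cs) l} := fun p =>
      ⟨p.1.1 :: p.2.1, ⟨p.1.2.1, p.2.2.1⟩, P.opp_cons.2 ⟨p.1.2.2, p.2.2.2⟩⟩
    have hΦ : Function.Bijective Φ := by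
      constructor
      · rintro ⟨⟨Y, hY⟩, ⟨t, ht⟩⟩ ⟨⟨Y', hY'⟩, ⟨t', ht'⟩⟩ h
        obtain ⟨rfl, rfl⟩ := List.cons.inj (congrArg Subtype.val h)
        rfl
      · rintro ⟨l, hl, hol⟩
        obtain ⟨Y, t, hg, hot, rfl⟩ := List.forall₂_cons_left_iff.1 hol
        exact ⟨⟨⟨Y, hl.1, hg⟩, ⟨t, hl.2, hot⟩⟩, rfl⟩
    haveI := Fintype.ofFinite Good
    rw [← Nat.card_eq_of_bijective Φ hΦ, Nat.card_sigma, Finset.sum_mul, List.length_cons,
      show (Cs.length + 1) * (2 * finrank F X + (Cs.length + 1) + 1) =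
        Cs.length * (2 * (finrank F X + 1) + Cs.length + 1) + (2 * finrank F X + 2) by ring, pow_add,
      Finset.sum_congr rfl fun Y _ => by rw [← mul_assoc, hrest Y],
      Finset.sum_const, Finset.card_univ, smul_eq_mul, ← Nat.card_eq_fintype_card, mul_left_comm,
      card_good hC.1 hd hX ho, pow_succ, Nat.succ_mul, pow_add]
    ring

end Pol

end CfsgLib.Char.PolarSteinberg
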