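import Cfsg.Agent.Lib.Char.PolarSteinberg.Apartment

/-!
# Two opposite chambers come from a frame
-/

set_option autoImplicit false
set_option linter.unusedSectionVars false

namespace CfsgLib.Char.PolarSteinberg

open Module

universe u v

namespace Pol

variable {F : Type u} {V : Type v} [Field F] [AddCommGroup V] [Module F V] {P : Pol F V}
variable [FiniteDimensional F V]

theorem IsFrame.linearIndependent_sum {r : ℕ} {e f : Fin r → V} (h : P.IsFrame e f) :
    LinearIndependent F (Sum.elim e f) := by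
  refine Fintype.linearIndependent_iff.2 fun a ha => ?_
  rw [Fintype.sum_sum_type] at ha
  simp only [Sum.elim_inl, Sum.elim_inr] at ha
  have hb : ∀ k, a (Sum.inr k) = 0 := fun k => by
    have h1 := congrArg (P.br (e k)) ha
    simp only [map_add, map_sum, map_smul, h.br_ee, h.br_ef, smul_eq_mul, mul_zero, mul_ite, mul_one,
      Finset.sum_const_zero, zero_add, Finset.sum_ite_eq, Finset.mem_univ, if_true, map_zero] at h1
    exact h1
  rintro (k | k)
  · simp only [hb, zero_smul, Finset.sum_const_zero, add_zero] at ha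
    have h1 := congrArg (P.br (f k)) ha
    rw [map_sum, map_zero, Finset.sum_eq_single k (fun j _ hj => by
      rw [map_smul, (h.br_fe k j).2 (Ne.symm hj), smul_zero]) (fun hn => absurd (Finset.mem_univ k) hn),
      map_smul, smul_eq_mul] at h1
    exact (mul_eq_zero.1 h1).resolve_right fun h0 => (h.br_fe k k).1 h0 rfl
  · exact hb k

theorem sup_span_cons (A : Submodule F V) (c : V) {n : ℕ} (g : Fin n → V) (i : Fin n) :
    A ⊔ Submodule.span F (Fin.cons c g '' Set.Iic i.succ) =
      (A ⊔ Submodule.span F {c}) ⊔ Submodule.span F (g '' Set.Iic i) := by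
  rw [sup_assoc, ← Submodule.span_union]
  congr 2
  ext x
  constructor
  · rintro ⟨j, hj, rfl⟩
    induction j using Fin.cases with
    | zero => exact Or.inl (by simp)
    | succ j =>
      refine Or.inr ⟨j, ?_, by simp⟩
      exact Fin.succ_le_succ_iff.1 hj
  · rintro (h | ⟨j, hj, rfl⟩)
    · exact ⟨0, Fin.zero_le _, by rw [Fin.cons_zero]; exact h.symm⟩
    · exact ⟨j.succ, Fin.succ_le_succ_iff.2 hj, by simp⟩

theorem span_cons_zero (c : V) {n : ℕ} (g : Fin n → V) :
    Submodule.span F ((Fin.cons c g : Fin (n + 1) → V) '' Set.Iic 0) = Submodule.span F {c} := by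
  congr 1
  ext x
  constructor
  · rintro ⟨j, hj, rfl⟩
    rw [le_antisymm hj (Fin.zero_le j), Fin.cons_zero]
    rfl
  · rintro rfl
    exact ⟨0, show (0 : Fin (n + 1)) ≤ 0 from le_rfl, Fin.cons_zero _ _⟩

/-- Frame vectors between opposite flags starting above opposite subspaces. -/
theorem exists_frame_aux : ∀ (Cs Ds : List (Submodule F V)) (Cj X : Submodule F V),
    P.Chn Cj Cs → P.Chn X Ds → finrank F Cj = finrank F X → X ⊓ P.perp Cj = ⊥ → P.Opp Cs Ds →
    ∃ e f : Fin Cs.length → V, P.IsFrame e f ∧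
      (∀ i, e i ∈ P.perp Cj ⊓ P.perp X ∧ f i ∈ P.perp Cj ⊓ P.perp X) ∧
      Cs = List.ofFn (fun i => Cj ⊔ Submodule.span F (e '' Set.Iic i)) ∧
      Ds = List.ofFn (fun i => X ⊔ Submodule.span F (f '' Set.Iic i)) := by
  intro Cs
  induction Cs with
  | nil =>
    intro Ds Cj X _ _ _ _ ho
    obtain rfl := List.forall₂_nil_left_iff.1 ho
    exact ⟨Fin.elim0, Fin.elim0,
      ⟨fun i => i.elim0, fun i => i.elim0, fun i => i.elim0, fun i => i.elim0, fun i => i.elim0⟩,
      fun i => i.elim0, rfl, rfl⟩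
  | cons C' Cs ih =>
    intro Ds Cj X hC hD hd ho hopp
    obtain ⟨D', Ds, hg, hopp', rfl⟩ := List.forall₂_cons_left_iff.1 hopp
    obtain ⟨c, hcm, hc, hcX, hn, -, hcC, hC'⟩ := exists_next hC.1 hd ho
    obtain ⟨v, hvm, hv, hvC, -, hnX, hvX, hD'⟩ := exists_next hD.1 hd.symm (P.opp_symm hd ho)
    have hcv : P.br c v ≠ 0 := fun e0 => by
      obtain ⟨y, hy, hyc⟩ := (opp_iff_exists hd ho hcX hD.1).1 (hC' ▸ hg)
      rw [hD'] at hy
      obtain ⟨x, hx, z, hz, rfl⟩ := Submodule.mem_sup.1 hy
      obtain ⟨a, rfl⟩ := Submodule.mem_span_singleton.1 hz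
      exact hyc (by rw [map_add, map_smul, e0, P.refl _ _ (hcX x hx), smul_zero, add_zero])
    obtain ⟨w, hw⟩ : ∃ w, w = (P.br c v)⁻¹ • v := ⟨_, rfl⟩
    have hcw : P.br c w = 1 := by rw [hw, map_smul, smul_eq_mul, inv_mul_cancel₀ hcv]
    have hwm : w ∈ D' := hw ▸ D'.smul_mem _ hvm
    have hwC : w ∈ P.perp Cj := hw ▸ Submodule.smul_mem _ _ hvC
    have hwX : w ∈ P.perp X := hw ▸ Submodule.smul_mem _ _ hvX
    have hws : P.sing w := hD.1.ts.sing w hwm
    have hD'' : D' = X ⊔ Submodule.span F {w} := by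
      rw [hD', hw, Submodule.span_singleton_smul_eq (IsUnit.mk0 _ (inv_ne_zero hcv))]
    have r1 := hC.1.rank
    have r2 := hD.1.rank
    obtain ⟨e, f, hef, horth, hCs, hDs⟩ := ih Ds C' D' hC.2 hD.2 (by omega) hg hopp'
    refine ⟨Fin.cons c e, Fin.cons w f, ⟨?_, ?_, ?_, ?_, ?_⟩, ?_, ?_, ?_⟩
    · exact Fin.cases (by simpa using hc) fun i => by simpa using hef.sing_e i
    · exact Fin.cases (by simpa using hws) fun i => by simpa using hef.sing_f i
    · have h0 : ∀ i, P.br c (e i) = 0 := fun i => (horth i).1.1 c hcm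
      intro i j
      induction i using Fin.cases <;> induction j using Fin.cases <;>
        simp only [Fin.cons_zero, Fin.cons_succ]
      · exact P.sing_self c hc
      · exact h0 _
      · exact P.refl _ _ (h0 _)
      · exact hef.br_ee _ _
    · have h0 : ∀ i, P.br w (f i) = 0 := fun i => (horth i).2.2 w hwm
      intro i j
      induction i using Fin.cases <;> induction j using Fin.cases <;>
        simp only [Fin.cons_zero, Fin.cons_succ]
      · exact P.sing_self w hws
      · exact h0 _
      · exact P.refl _ _ (h0 _)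
      · exact hef.br_ff _ _
    · intro i j
      induction i using Fin.cases <;> induction j using Fin.cases <;>
        simp only [Fin.cons_zero, Fin.cons_succ]
      · simp [hcw]
      · rename_i j
        rw [if_neg (Fin.succ_ne_zero j).symm]
        exact (horth j).2.1 c hcm
      · rename_i i
        rw [if_neg (Fin.succ_ne_zero i)]
        exact P.refl _ _ ((horth i).1.2 w hwm)
      · simp [hef.br_ef, Fin.succ_inj]
    · refine Fin.cases (by simpa using ⟨⟨hcC, hcX⟩, hwC, hwX⟩) fun i => ?_
      simp only [Fin.cons_succ]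
      exact ⟨⟨P.perp_antitone hC.1.le (horth i).1.1, P.perp_antitone hD.1.le (horth i).1.2⟩,
        P.perp_antitone hC.1.le (horth i).2.1, P.perp_antitone hD.1.le (horth i).2.2⟩
    · show _ = List.ofFn (n := Cs.length + 1) _
      rw [List.ofFn_succ, span_cons_zero, ← hC']
      conv_lhs => rw [hCs]
      congr 2
      funext i
      rw [sup_span_cons, ← hC']
    · show _ = List.ofFn (n := Cs.length + 1) _
      rw [List.ofFn_succ, span_cons_zero, ← hD'']
      conv_lhs => rw [hDs]
      congr 2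
      funext i
      rw [sup_span_cons, ← hD'']

/-- Opposite chambers have a common frame. -/
theorem exists_frame {r : ℕ} {C D : List (Submodule F V)} (hC : C.length = r) (hC' : P.Chn ⊥ C)
    (hD : P.Chn ⊥ D) (ho : P.Opp C D) :
    ∃ e f : Fin r → V, P.IsFrame e f ∧ flag F e = C ∧ flag F f = D := by
  subst hC
  obtain ⟨e, f, h, -, hCe, hDf⟩ := exists_frame_aux C D ⊥ ⊥ hC' hD rfl (bot_inf_eq _) ho
  refine ⟨e, f, h, ?_, ?_⟩
  · conv_rhs => rw [hCe]
    simp [flag]
  · conv_rhs => rw [hDf]
    simp [flag]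

end Pol

end CfsgLib.Char.PolarSteinberg
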