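import Cfsg.Agent.Lib.Char.PolarSteinberg.Irr
import Cfsg.Agent.Lib.Char.PolarSteinberg.Frame
import Cfsg.Agent.Lib.Char.PolarSteinberg.Count

/-!
# The character of an isometry group on the cycles of chambers
-/

set_option autoImplicit false
set_option linter.unusedSectionVars false

namespace CfsgLib.Char.PolarSteinberg

open Module Cfsg

universe u v w

namespace Pol

variable {F : Type u} {V : Type v} [Field F] [AddCommGroup V] [Module F V] {P : Pol F V}
variable [Finite F] [FiniteDimensional F V]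

theorem finite_space (F : Type u) (V : Type v) [Field F] [AddCommGroup V] [Module F V] [Finite F]
    [FiniteDimensional F V] : Finite V := Module.finite_of_finite F

theorem finite_sub (F : Type u) (V : Type v) [Field F] [AddCommGroup V] [Module F V] [Finite F]
    [FiniteDimensional F V] : Finite (Submodule F V) :=
  haveI := finite_space F V
  Finite.of_injective (fun Y : Submodule F V => (Y : Set V)) SetLike.coe_injective

instance (r : ℕ) : Finite (P.Chamber r) :=
  haveI := finite_sub F V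
  Set.Finite.to_subtype ((List.finite_length_eq (Submodule F V) r).subset fun _ h => h.1)

open scoped Classical in
/-- A function on chambers as a function on all lists. -/
noncomputable def ext {r : ℕ} (ψ : P.Chamber r → ℂ) (l : List (Submodule F V)) : ℂ :=
  if h : l.length = r ∧ P.Chn ⊥ l then ψ ⟨l, h⟩ else 0

theorem ext_val {r : ℕ} (ψ : P.Chamber r → ℂ) (x : P.Chamber r) : ext ψ x.1 = ψ x := dif_pos x.2

theorem supp_ext {r : ℕ} (ψ : P.Chamber r → ℂ) : P.Supp ⊥ r (ext ψ) := fun l hl => by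
  by_contra hn
  exact hl (dif_neg hn)

theorem ext_restrict {r : ℕ} {φ : List (Submodule F V) → ℂ} (hφ : P.Supp ⊥ r φ) :
    ext (fun x : P.Chamber r => φ x.1) = φ := funext fun l => by
  unfold ext
  split_ifs with h
  · rfl
  · by_contra hne
    exact h (hφ l (Ne.symm hne))

/-- The space of cycles on chambers. -/
noncomputable def cycles (P : Pol F V) (r : ℕ) : Submodule ℂ (P.Chamber r → ℂ) where
  carrier := {ψ | IsCycle (ext ψ)}
  add_mem' {a b} ha hb l₁ l₂ := by
    haveI := finite_sub F V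
    have : ∀ l, ext (a + b) l = ext a l + ext b l := fun l => by
      unfold ext
      split_ifs
      · rfl
      · simp
    simp only [this]
    rw [finsum_add_distrib (Set.toFinite _) (Set.toFinite _), ha, hb, add_zero]
  zero_mem' l₁ l₂ := by
    have : ∀ l, ext (0 : P.Chamber r → ℂ) l = 0 := fun l => by
      unfold ext
      split_ifs
      · rfl
      · simp
    simp [this]
  smul_mem' c a ha l₁ l₂ := by
    have : ∀ l, ext (c • a) l = c * ext a l := fun l => by
      unfold ext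
      split_ifs
      · rfl
      · simp
    simp only [this]
    rw [← mul_finsum _ _, ha, mul_zero]

theorem mem_cycles {r : ℕ} {ψ : P.Chamber r → ℂ} : ψ ∈ P.cycles r ↔ IsCycle (ext ψ) := Iff.rfl

/-- The chambers opposite to a chamber. -/
def oppSet {r : ℕ} (C : P.Chamber r) : Set (P.Chamber r) := {D | P.Opp C.1 D.1}

theorem Opp.symm_aux : ∀ (Cs Ds : List (Submodule F V)) (Cj X : Submodule F V), P.Chn Cj Cs → P.Chn X Ds →
    finrank F Cj = finrank F X → P.Opp Cs Ds → P.Opp Ds Cs := by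
  intro Cs
  induction Cs with
  | nil =>
    intro Ds Cj X _ _ _ h
    obtain rfl := List.forall₂_nil_left_iff.1 h
    exact h
  | cons C' Cs ih =>
    intro Ds Cj X hC hD hd h
    obtain ⟨D', Ds, hg, h', rfl⟩ := List.forall₂_cons_left_iff.1 h
    have hr : finrank F C' = finrank F D' := by rw [hC.1.rank, hD.1.rank, hd]
    exact P.opp_cons.2 ⟨P.opp_symm hr hg, ih Ds C' D' hC.2 hD.2 hr h'⟩

theorem oppSet_symm {r : ℕ} {C D : P.Chamber r} (h : D ∈ oppSet C) : C ∈ oppSet D :=
  Opp.symm_aux C.1 D.1 ⊥ ⊥ C.2.2 D.2.2 rfl h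

/-- The flags of a frame. -/
def chE {r : ℕ} {e f : Fin r → V} (h : P.IsFrame e f) : P.Chamber r := ⟨flag F e, flag_length e, h.chn_e⟩

/-- The flags of a frame. -/
def chF {r : ℕ} {e f : Fin r → V} (h : P.IsFrame e f) : P.Chamber r := ⟨flag F f, flag_length f, h.chn_f⟩

theorem chF_mem {r : ℕ} {e f : Fin r → V} (h : P.IsFrame e f) : chF h ∈ oppSet (chE h) := by
  show P.Opp (flag F e) (flag F f)
  rw [opp_flag_iff]
  intro i
  rw [eq_bot_iff]
  rintro x ⟨hx1, hx2⟩
  obtain ⟨a, ha, rfl⟩ := (Finsupp.mem_span_image_iff_linearCombination F).1 hx1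
  rw [Submodule.mem_bot]
  have key : ∀ k, a k = 0 := fun k => by
    by_contra hk
    have hki : k ∈ Set.Iic i := ha (Finsupp.mem_support_iff.2 hk)
    have h1 := hx2 (e k) (Submodule.subset_span ⟨k, hki, rfl⟩)
    rw [Finsupp.linearCombination_apply, map_finsuppSum, Finsupp.sum, Finset.sum_eq_single k
      (fun b _ hb => by rw [map_smul, h.br_ef, if_neg (Ne.symm hb), smul_zero])
      (fun hn => absurd (Finsupp.mem_support_iff.2 hk) hn), map_smul, h.br_ef, if_pos rfl, smul_eq_mul, mul_one] at h1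
    exact hk h1
  rw [Finsupp.ext (g := 0) key, map_zero]

theorem oppData {r : ℕ} (hmax : ∀ W, P.IsTS W → finrank F W ≤ r) (C : P.Chamber r)
    (hne : (oppSet C).Nonempty) : OppData (P.cycles r) (oppSet C) := by
  refine ⟨fun φ hφ h0 => ?_, fun D hD => ?_, hne⟩
  · have := P.eq_zero_of_opp hmax C.1 ⊥ ⊥ (ext φ) C.2.2 rfl P.isTS_bot (bot_inf_eq _)
      (by rw [finrank_bot, zero_add, C.2.1]) hφ (C.2.1.symm ▸ supp_ext φ) fun l hl => ?_
    · exact funext fun x => (ext_val φ x).symm.trans (congrFun this x.1)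
    by_contra hne'
    have hd := supp_ext φ l hne'
    exact hne' ((ext_val φ ⟨l, hd⟩).trans (h0 ⟨l, hd⟩ hl))
  · haveI := finite_space F V
    obtain ⟨e, f, h, he, hf⟩ := exists_frame C.2.1 C.2.2 D.2.2 hD
    refine ⟨fun x => apt F e f x.1, ?_, ?_, fun D' hD' hne' => ?_⟩
    · rw [mem_cycles, ext_restrict h.supp_apt]
      exact apt_isCycle e f
    · exact (h.apt_opp (l := D.1) (he.symm ▸ hD)).1 hf.symm
    · exact (h.apt_opp (l := D'.1) (he.symm ▸ hD')).2 fun e0 => hne' (Subtype.ext (e0.trans hf))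

theorem card_oppSet {r : ℕ} (C : P.Chamber r) :
    Nat.card (oppSet C) * Nat.card F ^ (r * (r + 1)) = P.N ^ r * Nat.card F ^ (r * finrank F V) := by
  have := card_opp (P := P) C.1 ⊥ ⊥ C.2.2 rfl P.isTS_bot (bot_inf_eq _)
  rw [finrank_bot, mul_zero, zero_add, C.2.1] at this
  rw [← this, Nat.card_congr (show (oppSet C) ≃ {l // P.Chn ⊥ l ∧ P.Opp C.1 l} from
    { toFun := fun D => ⟨D.1.1, D.1.2.2, D.2⟩
      invFun := fun l => ⟨⟨l.1, l.2.2.length_eq.symm.trans C.2.1, l.2.1⟩, l.2.2⟩
      left_inv := fun D => rfl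
      right_inv := fun l => rfl })]

end Pol

/-- A group acting by isometries. -/
structure Isom {F : Type u} {V : Type v} [Field F] [AddCommGroup V] [Module F V] (P : Pol F V) (G : Type w)
    [Group G] where
  act : G →* (V ≃ₗ[F] V)
  br_act : ∀ g u v, P.br (act g u) (act g v) = P.br u v
  sing_act : ∀ g v, P.sing (act g v) ↔ P.sing v

namespace Isom

open Pol

variable {F : Type u} {V : Type v} [Field F] [AddCommGroup V] [Module F V] {P : Pol F V}
variable {G : Type w} [Group G] (I : Isom P G)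

/-- The image of a subspace. -/
def mapSub (g : G) (X : Submodule F V) : Submodule F V := X.map (I.act g : V →ₗ[F] V)

theorem mem_mapSub (g : G) {X : Submodule F V} {v : V} : v ∈ I.mapSub g X ↔ I.act g⁻¹ v ∈ X := by
  rw [map_inv]
  exact Submodule.mem_map_equiv (p := X) (e := I.act g) (x := v)

theorem mapSub_mul (g h : G) (X : Submodule F V) : I.mapSub (g * h) X = I.mapSub g (I.mapSub h X) := by
  ext v
  rw [mem_mapSub, mem_mapSub, mem_mapSub, mul_inv_rev, map_mul]
  rfl

theorem mapSub_one (X : Submodule F V) : I.mapSub 1 X = X := by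
  ext v
  rw [mem_mapSub, inv_one, map_one]
  rfl

theorem mapSub_inv_cancel (g : G) (X : Submodule F V) : I.mapSub g (I.mapSub g⁻¹ X) = X := by
  rw [← mapSub_mul, mul_inv_cancel, mapSub_one]

theorem mapSub_le (g : G) {X Y : Submodule F V} (h : X ≤ Y) : I.mapSub g X ≤ I.mapSub g Y := Submodule.map_mono h

theorem finrank_mapSub (g : G) (X : Submodule F V) : finrank F (I.mapSub g X) = finrank F X :=
  LinearEquiv.finrank_map_eq (I.act g) X

theorem mapSub_perp (g : G) (X : Submodule F V) : I.mapSub g (P.perp X) = P.perp (I.mapSub g X) := by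
  ext v
  rw [mem_mapSub, P.mem_perp, P.mem_perp]
  constructor
  · intro h x hx
    have := h _ ((I.mem_mapSub g).1 hx)
    rwa [I.br_act] at this
  · intro h x hx
    have := h (I.act g x) (Submodule.mem_map_of_mem hx)
    rw [← I.br_act g⁻¹, map_inv] at this
    simpa [map_inv] using this

theorem isTS_mapSub (g : G) {X : Submodule F V} (h : P.IsTS X) : P.IsTS (I.mapSub g X) := by
  refine ⟨fun x hx => ?_, I.mapSub_perp g X ▸ I.mapSub_le g h.le_perp⟩
  obtain ⟨y, hy, rfl⟩ := hx
  exact (I.sing_act g y).2 (h.sing y hy)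

theorem chn_map (g : G) : ∀ (l : List (Submodule F V)) (X : Submodule F V),
    P.Chn X l → P.Chn (I.mapSub g X) (l.map (I.mapSub g))
  | [], _, _ => trivial
  | Y :: t, X, h =>
    ⟨⟨I.mapSub_le g h.1.le, by rw [finrank_mapSub, finrank_mapSub, h.1.rank], I.isTS_mapSub g h.1.ts⟩,
      chn_map g t Y h.2⟩

theorem mapSub_bot (g : G) : I.mapSub g ⊥ = ⊥ := Submodule.map_bot _

theorem chn_map_bot (g : G) {l : List (Submodule F V)} (h : P.Chn ⊥ l) : P.Chn ⊥ (l.map (I.mapSub g)) := by
  have := I.chn_map g l ⊥ h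
  rwa [mapSub_bot] at this

/-- The image of a chamber. -/
def mv {r : ℕ} (g : G) (C : P.Chamber r) : P.Chamber r :=
  ⟨C.1.map (I.mapSub g), by rw [List.length_map, C.2.1], I.chn_map_bot g C.2.2⟩

theorem mv_mul {r : ℕ} (g h : G) (C : P.Chamber r) : I.mv (g * h) C = I.mv g (I.mv h C) :=
  Subtype.ext (by
    show C.1.map _ = (C.1.map _).map _
    rw [List.map_map]
    exact List.map_congr_left fun X _ => I.mapSub_mul g h X)

theorem mv_one {r : ℕ} (C : P.Chamber r) : I.mv 1 C = C :=
  Subtype.ext ((List.map_congr_left fun X _ => I.mapSub_one X).trans (List.map_id _))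

/-- The action on chambers. -/
@[reducible] def chambers (r : ℕ) : MulAction G (P.Chamber r) where
  smul := I.mv
  one_smul := I.mv_one
  mul_smul := I.mv_mul

theorem opp_mv (g : G) {r : ℕ} {C D : P.Chamber r} (h : D ∈ oppSet C) : I.mv g D ∈ oppSet (I.mv g C) := by
  show List.Forall₂ _ (C.1.map _) (D.1.map _)
  rw [List.forall₂_map_left_iff, List.forall₂_map_right_iff]
  refine h.imp fun A B hAB => ?_
  rw [← I.mapSub_perp, mapSub, mapSub, ← Submodule.map_inf _ (I.act g).injective, hAB, Submodule.map_bot]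

theorem mv_flag (g : G) {r : ℕ} (e : Fin r → V) : (flag F e).map (I.mapSub g) = flag F fun i => I.act g (e i) := by
  rw [flag, flag, List.map_ofFn]
  congr 1
  funext i
  show (Submodule.span F _).map _ = _
  rw [Submodule.map_span, Set.image_image]
  rfl

variable [Finite F] [FiniteDimensional F V]

theorem inv_cycles (r : ℕ) : @Inv G (P.Chamber r) _ (I.chambers r) (P.cycles r) := by
  letI := I.chambers r
  intro g φ hφ
  have key : ∀ l, ext (fun x => φ (g⁻¹ • x)) l = ext φ (l.map (I.mapSub g⁻¹)) := fun l => by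
    unfold ext
    by_cases h : l.length = r ∧ P.Chn ⊥ l
    · rw [dif_pos h, dif_pos ⟨by rw [List.length_map, h.1], I.chn_map_bot g⁻¹ h.2⟩]
      rfl
    · rw [dif_neg h, dif_neg]
      rintro ⟨h1, h2⟩
      rw [List.length_map] at h1
      have h3 := I.chn_map g _ _ h2
      rw [I.mapSub_bot, List.map_map, List.map_congr_left (f := I.mapSub g ∘ I.mapSub g⁻¹) (g := id) fun X _ => I.mapSub_inv_cancel g X,
        List.map_id] at h3
      exact h ⟨h1, h3⟩
  intro l₁ l₂
  simp only [key, List.map_append, List.map_cons]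
  let e : Submodule F V ≃ Submodule F V :=
    { toFun := I.mapSub g⁻¹
      invFun := I.mapSub g
      left_inv := fun X => I.mapSub_inv_cancel g X
      right_inv := fun X => by rw [← mapSub_mul, inv_mul_cancel, mapSub_one] }
  exact (finsum_comp_equiv e (f := fun Y => ext φ (l₁.map _ ++ Y :: l₂.map _))).trans (hφ _ _)

/-- The representation on cycles. -/
noncomputable def rep (r : ℕ) : Representation ℂ G (P.cycles r) :=
  letI := I.chambers r
  cycRep (P.cycles r) (I.inv_cycles r)

/-- The character on cycles. -/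
noncomputable def steinberg (r : ℕ) : G → ℂ := (I.rep r).character

/-- Any two frames are carried to each other. -/
def MovesFrames (r : ℕ) : Prop :=
  ∀ e f e' f' : Fin r → V, P.IsFrame e f → P.IsFrame e' f' →
    ∃ g, (∀ i, I.act g (e i) = e' i) ∧ ∀ i, I.act g (f i) = f' i

variable {I} {r : ℕ}

theorem MovesFrames.pairs (h : I.MovesFrames r) {C D C' D' : P.Chamber r} (hD : D ∈ oppSet C)
    (hD' : D' ∈ oppSet C') : ∃ g, I.mv g C = C' ∧ I.mv g D = D' := by
  obtain ⟨e, f, hef, he, hf⟩ := exists_frame C.2.1 C.2.2 D.2.2 hD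
  obtain ⟨e', f', hef', he', hf'⟩ := exists_frame C'.2.1 C'.2.2 D'.2.2 hD'
  obtain ⟨g, hg, hg'⟩ := h e f e' f' hef hef'
  refine ⟨g, Subtype.ext ?_, Subtype.ext ?_⟩
  · show C.1.map _ = _
    rw [← he, I.mv_flag, funext hg, he']
  · show D.1.map _ = _
    rw [← hf, I.mv_flag, funext hg', hf']

/-- Irreducibility on a subgroup. -/
theorem isIrr_subgroup [Finite G] (hmax : ∀ W, P.IsTS W → finrank F W ≤ r) (hmf : I.MovesFrames r)
    {C₀ D₀ : P.Chamber r} (h₀ : D₀ ∈ oppSet C₀) (K : Subgroup G)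
    (hA : ∀ g, I.mv g C₀ = C₀ → ∃ k ∈ K, I.mv k C₀ = C₀ ∧ I.mv k D₀ = I.mv g D₀)
    (hB : ∀ g, ∀ φ ∈ P.cycles r, φ (I.mv g C₀) ≠ 0 → ∃ k ∈ K, φ (I.mv k C₀) ≠ 0) :
    IsIrrCharacter K fun k : K => I.steinberg r k := by
  letI := I.chambers r
  have hd := oppData hmax C₀ ⟨D₀, h₀⟩
  show IsIrrCharacter K fun k : K => (cycRep (P.cycles r) (I.inv_cycles r)).character k
  rw [← cycRep_subgroup (I.inv_cycles r) K]
  have hmove : ∀ D ∈ oppSet C₀, ∃ k : K, k • C₀ = C₀ ∧ k • D₀ = D := fun D hD => by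
    obtain ⟨g, hg1, hg2⟩ := hmf.pairs h₀ hD
    obtain ⟨k, hk, hk1, hk2⟩ := hA g hg1
    exact ⟨⟨k, hk⟩, hk1, hk2.trans hg2⟩
  refine isIrrCharacter_cycRep (G := K) _ hd C₀ (fun D hD D' hD' => ?_) fun φ hφ hne => ?_
  · obtain ⟨a, ha1, ha2⟩ := hmove D hD
    obtain ⟨b, hb1, hb2⟩ := hmove D' hD'
    refine ⟨b * a⁻¹, ?_, ?_⟩
    · rw [mul_smul, inv_smul_eq_iff.2 ha1.symm, hb1]
    · rw [mul_smul, inv_smul_eq_iff.2 ha2.symm, hb2]
  · obtain ⟨D, hD, hDne⟩ : ∃ D ∈ oppSet C₀, φ D ≠ 0 := by
      by_contra hcon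
      push Not at hcon
      exact hne (hd.inj φ hφ hcon)
    obtain ⟨g, hg, -⟩ := hmf.pairs hD (oppSet_symm hD)
    obtain ⟨k, hk, hk0⟩ := hB g φ hφ (by rwa [hg])
    exact ⟨⟨k, hk⟩, hk0⟩

/-- Irreducibility on the whole group. -/
theorem isIrr [Finite G] (hmax : ∀ W, P.IsTS W → finrank F W ≤ r) (hmf : I.MovesFrames r)
    {e f : Fin r → V} (h : P.IsFrame e f) : IsIrrCharacter G (I.steinberg r) := by
  have h1 := isIrr_subgroup hmax hmf (chF_mem h) ⊤ (fun g hg => ⟨g, trivial, hg, rfl⟩)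
    fun g φ _ hφ => ⟨g, trivial, hφ⟩
  obtain ⟨n, ρ, hρ, hch⟩ := h1
  let ρ' : Representation ℂ G (Fin n → ℂ) := ρ.comp Subgroup.topEquiv.symm.toMonoidHom
  refine ⟨n, ρ', ?_, funext fun g => congrFun hch ⟨g, trivial⟩⟩
  have hval : ∀ k : (⊤ : Subgroup G), ρ' k.1 = ρ k := fun k => rfl
  let es : Subrepresentation ρ' ≃o Subrepresentation ρ :=
    { toFun := fun S => ⟨S.toSubmodule, fun k v hv => hval k ▸ S.apply_mem_toSubmodule k.1 hv⟩
      invFun := fun S => ⟨S.toSubmodule, fun g v hv => S.apply_mem_toSubmodule (Subgroup.topEquiv.symm g) hv⟩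
      left_inv := fun S => rfl
      right_inv := fun S => rfl
      map_rel_iff' := Iff.rfl }
  have := hρ
  exact es.isSimpleOrder

/-- The degree. -/
theorem degree [Finite G] (hmax : ∀ W, P.IsTS W → finrank F W ≤ r) {e f : Fin r → V} (h : P.IsFrame e f) :
    ∃ n : ℕ, I.steinberg r 1 = (n : ℂ) ∧
      n * Nat.card F ^ (r * (r + 1)) = P.N ^ r * Nat.card F ^ (r * finrank F V) := by
  letI := I.chambers r
  exact ⟨_, cycRep_degree (I.inv_cycles r) (oppData hmax (chE h) ⟨_, chF_mem h⟩), card_oppSet (chE h)⟩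

/-- The value at an element fixing every totally singular subspace. -/
theorem steinberg_fix [Finite G] {z : G} (hz : ∀ X, P.IsTS X → I.mapSub z X = X) : I.steinberg r z = I.steinberg r 1 := by
  letI := I.chambers r
  refine cycRep_fix (I.inv_cycles r) fun C => Subtype.ext ?_
  show C.1.map (I.mapSub z) = C.1
  refine (List.map_congr_left fun X hX => ?_).trans (List.map_id _)
  have hts : ∀ (l : List (Submodule F V)) (Y : Submodule F V), P.Chn Y l → ∀ X ∈ l, P.IsTS X := by
    intro l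
    induction l with
    | nil => simp
    | cons A t ih =>
      intro Y h X hX
      rcases List.mem_cons.1 hX with rfl | hX
      · exact h.1.ts
      · exact ih A h.2 X hX
  exact hz X (hts _ _ C.2.2 X hX)

end Isom

end CfsgLib.Char.PolarSteinberg
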