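import Cfsg.Agent.Lib.Char.PolarSteinberg.Pol

/-!
# A cycle is determined by its values on the chambers opposite to a given one
-/

set_option autoImplicit false
set_option linter.unusedSectionVars false

namespace CfsgLib.Char.PolarSteinberg

open Module

universe u v

namespace Pol

variable {F : Type u} {V : Type v} [Field F] [AddCommGroup V] [Module F V] (P : Pol F V)
variable [FiniteDimensional F V]

/-- Nonzero only on chains of length `k` above `X`. -/
def Supp (X : Submodule F V) (k : ℕ) (φ : List (Submodule F V) → ℂ) : Prop :=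
  ∀ l, φ l ≠ 0 → l.length = k ∧ P.Chn X l

variable {P}

theorem Supp.slice {X Y : Submodule F V} {k : ℕ} {φ : List (Submodule F V) → ℂ} (h : P.Supp X (k + 1) φ) :
    P.Supp Y k fun l => φ (Y :: l) := fun l hl => by
  obtain ⟨h1, h2⟩ := h _ hl
  exact ⟨by simpa using h1, h2.2⟩

theorem Supp.cover {X Y : Submodule F V} {k : ℕ} {φ : List (Submodule F V) → ℂ} (h : P.Supp X k φ)
    {t : List (Submodule F V)} (hne : φ (Y :: t) ≠ 0) : P.Cover X Y := (h _ hne).2.1

variable (P)

/-- A singular vector orthogonal to a totally singular subspace of maximal rank lies in it. -/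
theorem mem_of_max {r : ℕ} (hmax : ∀ W, P.IsTS W → finrank F W ≤ r) {X : Submodule F V} (hX : P.IsTS X)
    (hr : finrank F X = r) {c : V} (hc : P.sing c) (hcX : c ∈ P.perp X) : c ∈ X := by
  by_contra hn
  have h1 := hmax _ (hX.sup_span hc hcX)
  rw [Submodule.finrank_sup_span_singleton hn] at h1
  omega

/-- A cycle supported on the chains inside one hyperplane `c⊥` vanishes. -/
theorem eq_zero_of_perp {r : ℕ} (hmax : ∀ W, P.IsTS W → finrank F W ≤ r) :
    ∀ (k : ℕ) (X : Submodule F V) (c : V) (φ : List (Submodule F V) → ℂ), P.IsTS X → P.sing c →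
      c ∈ P.perp X → c ∉ X → finrank F X + k = r → IsCycle φ → P.Supp X k φ →
      (∀ Y t, (∃ y ∈ Y, P.br c y ≠ 0) → φ (Y :: t) = 0) → φ = 0 := by
  intro k
  induction k with
  | zero =>
    intro X c φ hX hc hcX hn hr _ _ _
    exact absurd (P.mem_of_max hmax hX (by omega) hc hcX) hn
  | succ k ih =>
    intro X c φ hX hc hcX hn hr hcyc hsupp hvan
    have hslice : ∀ Y, c ∉ Y → ∀ t, φ (Y :: t) = 0 := by
      intro Y hcY
      by_contra hne
      push Not at hne
      obtain ⟨t, ht⟩ := hne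
      have hcov := hsupp.cover ht
      by_cases hbad : ∃ y ∈ Y, P.br c y ≠ 0
      · exact ht (hvan Y t hbad)
      push Not at hbad
      have hcY' : c ∈ P.perp Y := (P.mem_perp').2 hbad
      have hk : finrank F Y + k = r := by have := hcov.rank; omega
      have := ih Y c (fun l => φ (Y :: l)) hcov.ts hc hcY' hcY hk (hcyc.slice Y) hsupp.slice ?_
      · exact ht (congrFun this t)
      intro Z t' hZ
      by_contra hne0
      obtain ⟨z, hz, hzc⟩ := hZ
      have hch := (hsupp _ hne0).2
      have hYZ : P.Cover Y Z := hch.2.1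
      refine hne0 (hcyc.single [] (Z :: t') Y fun Y' hY' => ?_)
      by_contra hne'
      have hch' : P.Chn X (Y' :: Z :: t') := (hsupp _ hne').2
      have hc1 : P.Cover X Y' := hch'.1
      have hc2 : P.Cover Y' Z := hch'.2.1
      have hY'c : ∀ y ∈ Y', P.br c y = 0 := by
        by_contra hcon
        push Not at hcon
        exact hne' (hvan Y' _ hcon)
      obtain ⟨H, hH⟩ : ∃ H, H = Z ⊓ P.perp (Submodule.span F {c}) := ⟨_, rfl⟩
      have hlt : finrank F H < finrank F Z := by
        refine Submodule.finrank_lt_finrank_of_lt (lt_of_le_of_ne (hH ▸ inf_le_left) fun e => hzc ?_)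
        have hzH : z ∈ H := e.symm ▸ hz
        rw [hH] at hzH
        exact P.mem_perp_singleton.1 hzH.2
      have h1 : Y ≤ H := hH ▸ le_inf hYZ.le fun y hy => P.mem_perp_singleton.2 (hbad y hy)
      have h2 : Y' ≤ H := hH ▸ le_inf hc2.le fun y hy => P.mem_perp_singleton.2 (hY'c y hy)
      have r1 := hYZ.rank
      have r2 := hc1.rank
      have r3 := hcov.rank
      exact hY' ((Submodule.eq_of_le_of_finrank_le h2 (by omega)).trans
        (Submodule.eq_of_le_of_finrank_le h1 (by omega)).symm)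
    funext l
    by_contra hl
    obtain ⟨hlen, hch⟩ := hsupp l hl
    obtain ⟨Y, t, rfl⟩ := List.exists_cons_of_ne_nil (List.ne_nil_of_length_eq_add_one hlen)
    refine hl (hcyc.single [] t Y fun Y' hY' => ?_)
    show φ (Y' :: t) = 0
    by_contra hne'
    by_cases hcY : c ∈ Y
    swap
    · exact hl (hslice Y hcY t)
    by_cases hcY' : c ∈ Y'
    swap
    · exact hne' (hslice Y' hcY' t)
    have key : ∀ W, P.Cover X W → c ∈ W → X ⊔ Submodule.span F {c} = W := fun W hW hcW =>
      Submodule.eq_of_le_of_finrank_le (sup_le hW.le ((Submodule.span_singleton_le_iff_mem _ _).2 hcW))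
        (by rw [Submodule.finrank_sup_span_singleton hn, hW.rank])
    exact hY' ((key Y' (hsupp.cover hne') hcY').symm.trans (key Y hch.1 hcY))

variable {P}

/-- The line of `C'` orthogonal to an opposite of its hyperplane. -/
theorem exists_next {Cj C' X : Submodule F V} (hC : P.Cover Cj C') (hd : finrank F Cj = finrank F X)
    (ho : X ⊓ P.perp Cj = ⊥) :
    ∃ c ∈ C', P.sing c ∧ c ∈ P.perp X ∧ c ∉ X ∧ c ∉ Cj ∧ c ∈ P.perp Cj ∧
      C' = Cj ⊔ Submodule.span F {c} := by
  have hne : C' ⊓ P.perp X ≠ ⊥ := by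
    intro e
    have h1 := Submodule.finrank_sup_add_finrank_inf_eq C' (P.perp X)
    rw [e, finrank_bot] at h1
    have h2 := P.finrank_perp X
    have h3 := (C' ⊔ P.perp X).finrank_le
    have h4 := hC.rank
    omega
  obtain ⟨c, ⟨hc1, hc2⟩, hc0⟩ := Submodule.exists_mem_ne_zero_of_ne_bot hne
  have hcCj : c ∈ P.perp Cj := P.perp_antitone hC.le (hC.ts.le_perp hc1)
  have hn1 : c ∉ X := fun h => hc0 ((Submodule.mem_bot F).1 (ho ▸ ⟨h, hcCj⟩))
  have hn2 : c ∉ Cj := fun h => hc0 ((Submodule.mem_bot F).1 (P.opp_symm hd ho ▸ ⟨h, hc2⟩))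
  refine ⟨c, hc1, hC.ts.sing c hc1, hc2, hn1, hn2, hcCj, (Submodule.eq_of_le_of_finrank_le
    (sup_le hC.le ((Submodule.span_singleton_le_iff_mem _ _).2 hc1)) ?_).symm⟩
  rw [Submodule.finrank_sup_span_singleton hn2, hC.rank]

/-- A cover of `X` is opposite to `C'` exactly when it is not orthogonal to the new vector. -/
theorem opp_iff_exists {Cj X Y : Submodule F V} {c : V} (hd : finrank F Cj = finrank F X)
    (ho : X ⊓ P.perp Cj = ⊥) (hcX : c ∈ P.perp X) (hY : P.Cover X Y) :
    Y ⊓ P.perp (Cj ⊔ Submodule.span F {c}) = ⊥ ↔ ∃ y ∈ Y, P.br c y ≠ 0 := by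
  rw [P.perp_sup]
  constructor
  · intro hg
    by_contra hcon
    push Not at hcon
    have hle : Y ≤ P.perp (Submodule.span F {c}) := fun y hy => P.mem_perp_singleton.2 (hcon y hy)
    rw [inf_comm (P.perp Cj), ← inf_assoc, inf_eq_left.2 hle] at hg
    have h1 := Submodule.finrank_sup_add_finrank_inf_eq Y (P.perp Cj)
    rw [hg, finrank_bot] at h1
    have h2 := P.finrank_perp Cj
    have h3 := (Y ⊔ P.perp Cj).finrank_le
    have h4 := hY.rank
    omega
  · rintro ⟨y, hy, hyc⟩
    rw [eq_bot_iff]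
    rintro w ⟨hwY, hw1, hw2⟩
    by_contra hw0
    rw [Submodule.mem_bot] at hw0
    have hwX : w ∉ X := fun h => hw0 ((Submodule.mem_bot F).1 (ho ▸ ⟨h, hw1⟩))
    have hYe : X ⊔ Submodule.span F {w} = Y := Submodule.eq_of_le_of_finrank_le
      (sup_le hY.le ((Submodule.span_singleton_le_iff_mem _ _).2 hwY))
      (by rw [Submodule.finrank_sup_span_singleton hwX, hY.rank])
    obtain ⟨x, hx, z, hz, rfl⟩ := Submodule.mem_sup.1 (hYe.symm ▸ hy)
    obtain ⟨a, rfl⟩ := Submodule.mem_span_singleton.1 hz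
    exact hyc (by rw [map_add, map_smul, P.refl _ _ (hcX x hx), P.mem_perp_singleton.1 hw2, smul_zero, add_zero])

/-- A cycle vanishing at all chambers opposite to a chamber vanishes. -/
theorem eq_zero_of_opp {r : ℕ} (hmax : ∀ W, P.IsTS W → finrank F W ≤ r) :
    ∀ (Cs : List (Submodule F V)) (Cj X : Submodule F V) (φ : List (Submodule F V) → ℂ),
      P.Chn Cj Cs → finrank F Cj = finrank F X → P.IsTS X → X ⊓ P.perp Cj = ⊥ →
      finrank F X + Cs.length = r → IsCycle φ → P.Supp X Cs.length φ →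
      (∀ l, P.Opp Cs l → φ l = 0) → φ = 0 := by
  intro Cs
  induction Cs with
  | nil =>
    intro Cj X φ _ _ _ _ _ _ hsupp hvan
    funext l
    by_contra hl
    obtain rfl := List.eq_nil_of_length_eq_zero (hsupp l hl).1
    exact hl (hvan [] P.opp_nil)
  | cons C' Cs ih =>
    intro Cj X φ hch hd hX ho hr hcyc hsupp hvan
    obtain ⟨c, -, hc, hcX, hn, -, -, hC'⟩ := exists_next hch.1 hd ho
    rw [List.length_cons] at hr hsupp
    refine P.eq_zero_of_perp hmax (Cs.length + 1) X c φ hX hc hcX hn hr hcyc hsupp fun Y t hY => ?_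
    by_contra ht
    have hcov := hsupp.cover ht
    have hg : Y ⊓ P.perp C' = ⊥ := hC' ▸ (opp_iff_exists hd ho hcX hcov).2 hY
    have r1 := hch.1.rank
    have r2 := hcov.rank
    exact ht (congrFun (ih C' Y (fun l => φ (Y :: l)) hch.2 (by omega) hcov.ts hg (by omega) (hcyc.slice Y)
      hsupp.slice fun l hl => hvan (Y :: l) ((P.opp_cons).2 ⟨hg, hl⟩)) t)

end Pol

end CfsgLib.Char.PolarSteinberg
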