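import Cfsg.Agent.Lib.Char.SteinbergDescend
import Cfsg.Agent.Lib.Char.Scalar

/-!
# A criterion for irreducibility of a space of cycles

A space `V` of functions on chambers, invariant under the group, such that a function is determined by
its values on the set `Opp` (of chambers opposite to a base chamber `C`), which are arbitrary.
-/

set_option autoImplicit false
set_option linter.unusedSectionVars false

namespace CfsgLib.Char.PolarSteinberg

open Module Cfsg

universe u v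

variable {G : Type u} [Group G] {Ch : Type v} [MulAction G Ch]

/-- Functions moved by the group stay in the space. -/
def Inv (G : Type u) {Ch : Type v} [Group G] [MulAction G Ch] (V : Submodule ℂ (Ch → ℂ)) : Prop :=
  ∀ g : G, ∀ φ ∈ V, (fun x => φ (g⁻¹ • x)) ∈ V

/-- The representation on an invariant space of functions. -/
def cycRep (V : Submodule ℂ (Ch → ℂ)) (hV : Inv G V) : Representation ℂ G V where
  toFun g :=
    { toFun := fun φ => ⟨fun x => φ.1 (g⁻¹ • x), hV g φ.1 φ.2⟩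
      map_add' := fun φ ψ => rfl
      map_smul' := fun c φ => rfl }
  map_one' := LinearMap.ext fun φ => Subtype.ext (funext fun x => by simp)
  map_mul' g h := LinearMap.ext fun φ => Subtype.ext (funext fun x => by simp [mul_smul])

theorem cycRep_apply (V : Submodule ℂ (Ch → ℂ)) (hV : Inv G V) (g : G) (φ : V) (x : Ch) :
    (cycRep V hV g φ).1 x = φ.1 (g⁻¹ • x) := rfl

/-- The conditions on values at the opposite chambers. -/
structure OppData (V : Submodule ℂ (Ch → ℂ)) (Opp : Set Ch) : Prop where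
  inj : ∀ φ ∈ V, (∀ D ∈ Opp, φ D = 0) → φ = 0
  cyc : ∀ D ∈ Opp, ∃ φ ∈ V, φ D = 1 ∧ ∀ D' ∈ Opp, D' ≠ D → φ D' = 0
  nonempty : Opp.Nonempty

variable {V : Submodule ℂ (Ch → ℂ)} {Opp : Set Ch}

theorem OppData.finrank_eq [Finite Ch] (hd : OppData V Opp) : finrank ℂ V = Nat.card Opp := by
  classical
  haveI := Fintype.ofFinite Opp
  let r : V →ₗ[ℂ] (Opp → ℂ) := (LinearMap.funLeft ℂ ℂ Subtype.val).comp V.subtype
  have hr : ∀ (φ : V) (D : Opp), r φ D = φ.1 D.1 := fun φ D => rfl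
  have hi : Function.Injective r := (injective_iff_map_eq_zero r).2 fun φ h =>
    Subtype.ext (hd.inj φ.1 φ.2 fun D hD => (hr φ ⟨D, hD⟩).symm.trans (congrFun h ⟨D, hD⟩))
  have hs : Function.Surjective r := by
    refine LinearMap.range_eq_top.1 (eq_top_iff.2 ?_)
    rw [← (Pi.basisFun ℂ Opp).span_eq, Submodule.span_le]
    rintro _ ⟨D, rfl⟩
    obtain ⟨φ, hφ, h1, h0⟩ := hd.cyc D.1 D.2
    refine ⟨⟨φ, hφ⟩, funext fun D' => ?_⟩
    rw [hr, Pi.basisFun_apply]
    by_cases hDD : D' = D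
    · subst hDD
      rw [Pi.single_eq_same]
      exact h1
    · rw [Pi.single_eq_of_ne hDD]
      exact h0 D'.1 D'.2 fun e => hDD (Subtype.ext e)
  rw [(LinearEquiv.ofBijective r ⟨hi, hs⟩).finrank_eq, finrank_fintype_fun_eq_card, Nat.card_eq_fintype_card]

variable [Finite G] [Finite Ch]

theorem isIrreducible_cycRep (hV : Inv G V) (hd : OppData V Opp) (C : Ch)
    (htrans : ∀ D ∈ Opp, ∀ D' ∈ Opp, ∃ h : G, h • C = C ∧ h • D = D')
    (hmove : ∀ φ ∈ V, φ ≠ 0 → ∃ g : G, φ (g • C) ≠ 0) : (cycRep V hV).IsIrreducible := by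
  classical
  obtain ⟨D₀, hD₀⟩ := hd.nonempty
  obtain ⟨ρ, hρ⟩ : ∃ ρ, ρ = cycRep V hV := ⟨_, rfl⟩
  rw [← hρ]
  haveI := Fintype.ofFinite (MulAction.stabilizer G C)
  -- a fixed vector in every nonzero invariant subspace
  have hfix : ∀ W : Subrepresentation ρ, W ≠ ⊥ → ∃ ψ ∈ W.toSubmodule, ψ.1 C ≠ 0 ∧
      ∀ D ∈ Opp, ψ.1 D = ψ.1 D₀ := by
    intro W hW
    have hW' : W.toSubmodule ≠ ⊥ := fun e => hW (Subrepresentation.toSubmodule_injective e)
    obtain ⟨φ, hφ, hφ0⟩ := Submodule.exists_mem_ne_zero_of_ne_bot hW'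
    obtain ⟨g, hg⟩ := hmove φ.1 φ.2 fun e => hφ0 (Subtype.ext e)
    obtain ⟨ψ, hψ⟩ : ∃ ψ : V, ψ = ∑ h : MulAction.stabilizer G C, ρ (h : G) (ρ g⁻¹ φ) := ⟨_, rfl⟩
    have hval : ∀ x, ψ.1 x = ∑ h : MulAction.stabilizer G C, φ.1 (g • (h : G)⁻¹ • x) := fun x => by
      rw [hψ, Submodule.coe_sum, Finset.sum_apply]
      refine Finset.sum_congr rfl fun h _ => ?_
      rw [hρ, cycRep_apply, cycRep_apply, inv_inv]
    refine ⟨ψ, hψ ▸ W.toSubmodule.sum_mem fun h _ =>
      W.apply_mem_toSubmodule _ (W.apply_mem_toSubmodule _ hφ), ?_, fun D hD => ?_⟩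
    · rw [hval, Finset.sum_congr rfl fun h _ => by
        rw [show ((h : G)⁻¹ • C) = C from inv_smul_eq_iff.2 (MulAction.mem_stabilizer_iff.1 h.2).symm]]
      rw [Finset.sum_const, nsmul_eq_mul]
      exact mul_ne_zero (Nat.cast_ne_zero.2 Fintype.card_ne_zero) hg
    · obtain ⟨k, hkC, hkD⟩ := htrans D₀ hD₀ D hD
      rw [hval, hval, ← hkD]
      refine Fintype.sum_equiv (Equiv.mulLeft (⟨k, MulAction.mem_stabilizer_iff.2 hkC⟩ : MulAction.stabilizer G C)⁻¹)
        _ _ fun h => ?_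
      simp [mul_smul]
  haveI : Nontrivial V := nontrivial_of_finrank_pos (R := ℂ) (by
    rw [hd.finrank_eq]
    haveI : Nonempty Opp := ⟨⟨D₀, hD₀⟩⟩
    exact Nat.card_pos)
  haveI : Nontrivial (Subrepresentation ρ) :=
    ⟨⟨⊥, ⊤, fun e => bot_ne_top (α := Submodule ℂ V) (congrArg Subrepresentation.toSubmodule e)⟩⟩
  refine ⟨fun W => ?_⟩
  obtain ⟨W', hc⟩ := (CfsgLib.Char.complemented_subrep ρ).exists_isCompl W
  by_contra hcon
  push Not at hcon
  obtain ⟨hb, ht⟩ := hcon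
  have hb' : W' ≠ ⊥ := fun e => ht (by
    have := hc.sup_eq_top
    rwa [e, sup_bot_eq] at this)
  obtain ⟨ψ, hψm, hψC, hψO⟩ := hfix W hb
  obtain ⟨ψ', hψm', hψC', hψO'⟩ := hfix W' hb'
  have h0 : ψ.1 D₀ ≠ 0 := fun e => hψC (by
    rw [hd.inj ψ.1 ψ.2 fun D hD => (hψO D hD).trans e]
    rfl)
  have heq : ψ' = (ψ'.1 D₀ / ψ.1 D₀) • ψ := by
    refine sub_eq_zero.1 (Subtype.ext (hd.inj _ (Submodule.sub_mem _ ψ'.2 (V.smul_mem _ ψ.2)) fun D hD => ?_))
    rw [Submodule.coe_sub, Submodule.coe_smul, Pi.sub_apply, Pi.smul_apply, smul_eq_mul, hψO D hD, hψO' D hD, div_mul_cancel₀ _ h0, sub_self]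
  have hmem : ψ' ∈ W.toSubmodule ⊓ W'.toSubmodule :=
    ⟨by rw [heq]; exact W.toSubmodule.smul_mem _ hψm, hψm'⟩
  rw [(CfsgLib.Char.isCompl_toSubmodule hc).inf_eq_bot, Submodule.mem_bot] at hmem
  exact hψC' (by rw [hmem]; rfl)

theorem isIrrCharacter_cycRep (hV : Inv G V) (hd : OppData V Opp) (C : Ch)
    (htrans : ∀ D ∈ Opp, ∀ D' ∈ Opp, ∃ h : G, h • C = C ∧ h • D = D')
    (hmove : ∀ φ ∈ V, φ ≠ 0 → ∃ g : G, φ (g • C) ≠ 0) : IsIrrCharacter G (cycRep V hV).character := by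
  haveI := isIrreducible_cycRep hV hd C htrans hmove
  exact CfsgLib.Char.isIrrCharacter_character _

theorem cycRep_degree (hV : Inv G V) (hd : OppData V Opp) :
    (cycRep V hV).character 1 = (Nat.card Opp : ℂ) := by
  rw [Representation.char_one, hd.finrank_eq]

theorem cycRep_fix (hV : Inv G V) {z : G} (hz : ∀ x : Ch, z • x = x) :
    (cycRep V hV).character z = (cycRep V hV).character 1 := by
  have : cycRep V hV z = cycRep V hV 1 := LinearMap.ext fun φ => Subtype.ext (funext fun x => by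
    rw [cycRep_apply, cycRep_apply, inv_smul_eq_iff.2 (hz x).symm, inv_one, one_smul])
  simp only [Representation.character, this]

theorem Inv.subgroup (hV : Inv G V) (K : Subgroup G) : Inv K V := fun g φ hφ => hV (g : G) φ hφ

theorem cycRep_subgroup (hV : Inv G V) (K : Subgroup G) :
    (cycRep V (hV.subgroup K)).character = fun k : K => (cycRep V hV).character k := rfl

end CfsgLib.Char.PolarSteinberg
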