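import Cfsg.Agent.Lib.Char.PolarSteinberg.OrthStd
import Cfsg.Agent.Lib.CharTwoInvol.Minus
import Cfsg.Agent.Lib.Orth.MaxSing
import Cfsg.Agent.Lib.Orth.ReflProducts
import Cfsg.Agent.Lib.Char.Degree

/-!
# Steinberg characters of orthogonal groups in characteristic two
-/

set_option autoImplicit false
set_option linter.unusedSectionVars false

namespace CfsgLib.Char.PolarSteinberg

open Module Cfsg

universe u v

namespace Pol

variable {F : Type u} {V : Type v} [Field F] [AddCommGroup V] [Module F V] {P : Pol F V}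
variable [Finite F] [FiniteDimensional F V]

theorem cover_of_chn : ∀ (k : ℕ) (X : Submodule F V) (L : Fin k → Submodule F V) (Y : Submodule F V),
    P.Chn X (List.ofFn L ++ [Y]) → P.Cover ((Fin.cons X L : Fin (k + 1) → Submodule F V) (Fin.last k)) Y
  | 0, X, L, Y, h => by
    rw [List.ofFn_zero] at h
    simpa using h.1
  | k + 1, X, L, Y, h => by
    rw [List.ofFn_succ] at h
    have := cover_of_chn k (L 0) (fun i => L i.succ) Y h.2
    rw [show (Fin.cons (L 0) fun i => L i.succ : Fin (k + 1) → Submodule F V) = L from Fin.cons_self_tail L] at this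
    rw [← Fin.succ_last, Fin.cons_succ]
    exact this

/-- At the last step of a hyperbolic frame with two covers, swapping gives the twin chamber. -/
theorem cycle_twin {k : ℕ} (hmax : ∀ W, P.IsTS W → finrank F W ≤ k + 1) (hN : P.N = 1)
    (hD : finrank F V = 2 * (k + 1)) {e f e' : Fin (k + 1) → V} (h : P.IsFrame e f)
    {ψ : P.Chamber (k + 1) → ℂ} (hψ : ψ ∈ P.cycles (k + 1)) (he : ∀ i, i ≠ Fin.last k → e' i = e i)
    (hl : e' (Fin.last k) = f (Fin.last k)) (g : P.Chamber (k + 1)) (hg : g.1 = flag F e') :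
    ψ g = -ψ (chE h) := by
  classical
  haveI := finite_space F V
  haveI := finite_sub F V
  obtain ⟨L, hL⟩ : ∃ L : Fin k → Submodule F V, L = fun i => Submodule.span F (e '' Set.Iic i.castSucc) := ⟨_, rfl⟩
  obtain ⟨X, hX⟩ : ∃ X, X = Submodule.span F (e '' Set.Iio (Fin.last k)) := ⟨_, rfl⟩
  obtain ⟨Cj, hCj⟩ : ∃ Cj, Cj = Submodule.span F (f '' Set.Iio (Fin.last k)) := ⟨_, rfl⟩
  have hlastX : (Fin.cons ⊥ L : Fin (k + 1) → Submodule F V) (Fin.last k) = X := by
    cases k with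
    | zero =>
      rw [hX, show Fin.last 0 = 0 from rfl, Fin.cons_zero,
        show Set.Iio (0 : Fin 1) = ∅ from Set.eq_empty_iff_forall_notMem.2 fun x hx => absurd hx (by simp),
        Set.image_empty, Submodule.span_empty]
    | succ n =>
      rw [← Fin.succ_last, Fin.cons_succ, hL, hX, ← Fin.succ_last]
      show Submodule.span F (e '' Set.Iic (Fin.last n).castSucc) = _
      rw [show Set.Iic (Fin.last n).castSucc = Set.Iio (Fin.last n).succ from
        Set.ext fun x => Fin.le_castSucc_iff.trans Iff.rfl]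
  have hflag : ∀ (a : Fin (k + 1) → V), (∀ i, i ≠ Fin.last k → a i = e i) →
      flag F a = List.ofFn L ++ [Submodule.span F (a '' Set.Iic (Fin.last k))] := fun a ha => by
    rw [flag, List.ofFn_succ', List.concat_eq_append]
    congr 2
    funext i
    rw [hL]
    exact congrArg _ (Set.image_congr fun j hj => ha j fun e0 => by
      have : j ≤ i.castSucc := hj
      rw [e0] at this
      exact absurd this (not_le.2 (Fin.castSucc_lt_last i)))
  -- the two covers
  have hlts : ∀ (a : Fin (k + 1) → V), Submodule.span F (a '' Set.Iio (Fin.last k)) ⊔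
      Submodule.span F {a (Fin.last k)} = Submodule.span F (a '' Set.Iic (Fin.last k)) := fun a => by
    rw [← Submodule.span_union, ← Set.image_singleton, ← Set.image_union,
      show Set.Iio (Fin.last k) ∪ {Fin.last k} = Set.Iic (Fin.last k) from Set.ext fun x => by
        simp [le_iff_lt_or_eq]]
  have hts : ∀ {a b : Fin (k + 1) → V}, P.IsFrame a b → ∀ S, P.IsTS (Submodule.span F (a '' S)) :=
    fun ha S => P.isTS_span (fun x hx => by obtain ⟨i, -, rfl⟩ := hx; exact ha.sing_e i)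
      (fun x hx y hy => by obtain ⟨i, -, rfl⟩ := hx; obtain ⟨j, -, rfl⟩ := hy; exact ha.br_ee i j)
  have hfts : ∀ S, P.IsTS (Submodule.span F (f '' S)) :=
    fun S => P.isTS_span (fun x hx => by obtain ⟨i, -, rfl⟩ := hx; exact h.sing_f i)
      (fun x hx y hy => by obtain ⟨i, -, rfl⟩ := hx; obtain ⟨j, -, rfl⟩ := hy; exact h.br_ff i j)
  have hcard : ∀ {a : Fin (k + 1) → V}, LinearIndependent F a → ∀ S : Set (Fin (k + 1)),
      finrank F (Submodule.span F (a '' S)) = S.toFinset.card := fun ha S => by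
    have hli : LinearIndependent F (fun x : S => _) := ha.comp (Subtype.val : S → Fin (k + 1)) Subtype.val_injective
    rw [Set.toFinset_card, ← finrank_span_eq_card hli, Set.image_eq_range]
    rfl
  have heli := h.linearIndependent_sum.comp Sum.inl Sum.inl_injective
  have hfli := h.linearIndependent_sum.comp Sum.inr Sum.inr_injective
  have hd : finrank F Cj = finrank F X := by rw [hCj, hX, hcard (a := f) hfli, hcard (a := e) heli]
  have hXk : finrank F X = k := by
    rw [hX, hcard (a := e) heli, Set.toFinset_Iio, Fin.card_Iio]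
    rfl
  have ho : X ⊓ P.perp Cj = ⊥ := by
    have h2 : Cj ⊓ P.perp X = ⊥ := by
      rcases Nat.eq_zero_or_pos k with hk | hk
      · rw [Submodule.finrank_eq_zero.1 (hd.trans (hXk.trans hk)), bot_inf_eq]
      have hop := chF_mem h
      change P.Opp (flag F e) (flag F f) at hop
      rw [opp_flag_iff] at hop
      have := hop ⟨k - 1, by omega⟩
      rw [show Set.Iic (⟨k - 1, by omega⟩ : Fin (k + 1)) = Set.Iio (Fin.last k) from Set.ext fun x => by
        show x.1 ≤ k - 1 ↔ x.1 < k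
        omega] at this
      rw [hCj, hX]
      exact this
    exact P.opp_symm hd.symm h2
  obtain ⟨c, hc⟩ : ∃ c, c = f (Fin.last k) := ⟨_, rfl⟩
  have hC' : P.Cover Cj (Cj ⊔ Submodule.span F {c}) := by
    rw [hCj, hc, hlts f]
    refine ⟨Submodule.span_mono (Set.image_mono Set.Iio_subset_Iic_self), ?_, hfts _⟩
    rw [hcard (a := f) hfli, hcard (a := f) hfli, Set.toFinset_Iic, Set.toFinset_Iio, Fin.card_Iic, Fin.card_Iio]
  have hcX : c ∈ P.perp X := by
    rw [hX, P.mem_perp_span, hc]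
    rintro _ ⟨i, hi, rfl⟩
    exact (h.br_fe _ _).2 (Ne.symm (ne_of_lt hi))
  have hcn : c ∉ X := fun hm => by
    have h1 := hcX
    have h2 : P.br (e (Fin.last k)) c = 1 := by rw [hc, h.br_ef, if_pos rfl]
    have h3 : P.br (e (Fin.last k)) c = 0 := (hts h Set.univ).le_perp
      (Submodule.span_mono (Set.image_mono (Set.subset_univ _)) (hX ▸ hm)) _
      (Submodule.subset_span ⟨Fin.last k, trivial, rfl⟩)
    exact one_ne_zero (h2.symm.trans h3)
  have hgood := card_good hC' hd (hX ▸ hts h _) ho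
  rw [hN, one_mul, hXk, hD, show 2 * k + 2 = 2 * (k + 1) by ring] at hgood
  have hq : 0 < Nat.card F ^ (2 * (k + 1)) := pow_pos Nat.card_pos _
  have huniq : Subsingleton {Y // P.Cover X Y ∧ Y ⊓ P.perp (Cj ⊔ Submodule.span F {c}) = ⊥} := by
    rw [← Finite.card_le_one_iff_subsingleton]
    exact Nat.le_of_eq (Nat.eq_of_mul_eq_mul_right hq (by rw [hgood, one_mul]))
  obtain ⟨U, hU⟩ : ∃ U, U = Submodule.span F (e '' Set.Iic (Fin.last k)) := ⟨_, rfl⟩
  obtain ⟨U', hU'⟩ : ∃ U', U' = X ⊔ Submodule.span F {c} := ⟨_, rfl⟩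
  have hUc : P.Cover X U := by
    refine ⟨hX ▸ hU ▸ Submodule.span_mono (Set.image_mono Set.Iio_subset_Iic_self), ?_, hU ▸ hts h _⟩
    rw [hXk, hU, hcard (a := e) heli, Set.toFinset_Iic, Fin.card_Iic]
    rfl
  have hUne : U ≠ U' := fun e0 => by
    have hm : c ∈ U := e0 ▸ hU' ▸ Submodule.mem_sup_right (Submodule.mem_span_singleton_self c)
    have h3 : P.br (e (Fin.last k)) c = 0 :=
      (hU ▸ hts h _ : P.IsTS U).le_perp hm _ (hU ▸ Submodule.subset_span ⟨Fin.last k, Set.self_mem_Iic, rfl⟩)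
    rw [hc, h.br_ef, if_pos rfl] at h3
    exact one_ne_zero h3
  have hUg : U ⊓ P.perp (Cj ⊔ Submodule.span F {c}) = ⊥ := by
    refine (opp_iff_exists hd ho hcX hUc).2 ⟨e (Fin.last k), hU ▸ Submodule.subset_span ⟨Fin.last k, Set.self_mem_Iic, rfl⟩, ?_⟩
    rw [hc]
    exact fun e0 => (h.br_fe _ _).1 e0 rfl
  have honly : ∀ Y, P.Cover X Y → Y = U ∨ Y = U' := fun Y hY => by
    by_cases hg : Y ⊓ P.perp (Cj ⊔ Submodule.span F {c}) = ⊥
    · exact Or.inl (congrArg Subtype.val (huniq.elim ⟨Y, hY, hg⟩ ⟨U, hUc, hUg⟩))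
    · refine Or.inr (Submodule.eq_of_le_of_finrank_eq (sup_le hY.le ?_) ?_).symm |> fun h0 => hU' ▸ h0
      · have hall : ∀ y ∈ Y, P.br c y = 0 := by
          by_contra hcon
          push Not at hcon
          exact hg ((opp_iff_exists hd ho hcX hY).2 hcon)
        exact (Submodule.span_singleton_le_iff_mem _ _).2 (P.mem_of_max hmax hY.ts (by rw [hY.rank, hXk])
          (hc ▸ h.sing_f _) ((P.mem_perp').2 hall))
      · rw [Submodule.finrank_sup_span_singleton hcn, hY.rank]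
  -- the cycle condition
  have hsum := hψ (List.ofFn L) []
  haveI := Fintype.ofFinite (Submodule F V)
  rw [finsum_eq_sum_of_fintype, ← Finset.sum_subset (Finset.subset_univ {U, U'}), Finset.sum_pair hUne] at hsum
  · have h1 : ext ψ (List.ofFn L ++ [U]) = ψ (chE h) := by
      rw [← ext_val ψ (chE h), show (chE h).1 = flag F e from rfl, hflag e (fun _ _ => rfl), hU]
    have h2 : ext ψ (List.ofFn L ++ [U']) = ψ g := by
      rw [← ext_val ψ g, hg, hflag e' he, ← hlts, hl, hU', hc, hX]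
      congr 4
      exact congrArg _ (Set.image_congr fun j hj => (he j (ne_of_lt hj)).symm)
    rw [h1, h2] at hsum
    linear_combination hsum
  · intro Y _ hY
    by_contra hne
    have := cover_of_chn k ⊥ L Y (supp_ext ψ _ hne).2
    rw [hlastX] at this
    rcases honly Y this with rfl | rfl <;> simp at hY

end Pol

namespace Orthog

open Matrix CfsgLib.Classical

variable {F : Type*} [Field F] [Fintype F]

theorem mv_eq_of_fix {ι : Type} [Fintype ι] [DecidableEq ι] {Q : QuadraticForm F (ι → F)}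
    {hQ : (QuadraticMap.polarBilin Q).Nondegenerate} {r : ℕ} (g s : ↥(Cfsg.isometryGroup F ⇑Q))
    {e : Fin r → ι → F} (hs : ∀ i, s.1.1 *ᵥ e i = e i) (C : (pol Q hQ).Chamber r) (hC : C.1 = Pol.flag F e) :
    (isom Q hQ).mv (g * s) C = (isom Q hQ).mv g C := by
  rw [Isom.mv_mul]
  congr 1
  refine Subtype.ext ?_
  show C.1.map _ = C.1
  rw [hC, Isom.mv_flag]
  exact congrArg _ (funext hs)

theorem exists_minus_even [CharP F 2] {a b : F}
    (hab : ∀ z₁ z₂ : F, z₁ ^ 2 + a * z₁ * z₂ + b * z₂ ^ 2 = 0 → z₁ = 0 ∧ z₂ = 0) (m : ℕ) :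
    ∃ χ : Cfsg.POmega F ⇑(minusQ m F a b) → ℂ, IsIrrCharacter (Cfsg.POmega F ⇑(minusQ m F a b)) χ ∧
      ∀ P : Sylow 2 (Cfsg.POmega F ⇑(minusQ m F a b)), χ 1 = Nat.card P ∧
        ∀ x : Cfsg.POmega F ⇑(minusQ m F a b), x ∈ P → x ≠ 1 → χ x = 0 := by
  classical
  haveI : Fact (Nat.Prime 2) := ⟨Nat.prime_two⟩
  have hQ := minusQ_nondeg hab m
  have hOD := CfsgLib.CharTwoInvol.omegaData_minus (k := m) hab
  have hS := std_minus hab m
  have hfr := frame_minus hab m
  obtain ⟨z, hz⟩ : ∃ z : (Fin m ⊕ Fin m) ⊕ Fin 2 → F, z = Pi.single (Sum.inr 0) 1 := ⟨_, rfl⟩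
  have hzQ : minusQ m F a b z ≠ 0 := by
    rw [hz, minusQ_coe]
    simp [Cfsg.quadFormMinus]
  obtain ⟨s, -, hs⟩ := CfsgLib.Orth.exists_reflIso hQ hzQ
  have hnd := CfsgLib.Orth.nd_of_qf _ hQ
  have hs2 : s ^ 2 = 1 := Subtype.ext (by
    rw [sq]
    exact CfsgLib.Orth.refl_mul_self hnd hs hzQ)
  have hsn : s ∉ Cfsg.Omega F ⇑(minusQ m F a b) := fun hm => by
    have h1 := (hOD.par s hs2).1 hm
    rw [(CfsgLib.Orth.refl_spn hnd s.2 hs hzQ).1] at h1
    exact Nat.not_even_one h1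
  have hse : ∀ i, s.1.1 *ᵥ (Pi.single (Sum.inl (Sum.inl i)) 1 : (Fin m ⊕ Fin m) ⊕ Fin 2 → F) =
      Pi.single (Sum.inl (Sum.inl i)) 1 := fun i => by
    rw [hs, hz, polar_minus]
    simp
  have hsf : ∀ i, s.1.1 *ᵥ (Pi.single (Sum.inl (Sum.inr i)) 1 : (Fin m ⊕ Fin m) ⊕ Fin 2 → F) =
      Pi.single (Sum.inl (Sum.inr i)) 1 := fun i => by
    rw [hs, hz, polar_minus]
    simp
  refine hS.exists_of_restrict 2 hOD.index ⟨1, by norm_num, by norm_num⟩
    (Isom.isIrr_subgroup hS.max (movesFrames hQ m) (Pol.chF_mem hfr) _ (fun g hg => ?_) fun g φ _ hφ => ?_)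
  · by_cases hgm : g ∈ Cfsg.Omega F ⇑(minusQ m F a b)
    · exact ⟨g, hgm, hg, rfl⟩
    · exact ⟨g * s, (hOD.mul_mem_iff g s).2 (iff_of_false hgm hsn), (mv_eq_of_fix g s hse _ rfl).trans hg,
        mv_eq_of_fix g s hsf _ rfl⟩
  · by_cases hgm : g ∈ Cfsg.Omega F ⇑(minusQ m F a b)
    · exact ⟨g, hgm, hφ⟩
    · exact ⟨g * s, (hOD.mul_mem_iff g s).2 (iff_of_false hgm hsn), by rwa [mv_eq_of_fix g s hse _ rfl]⟩

theorem exists_plus_even [CharP F 2] (k : ℕ) (hk : 1 ≤ k) (hex : Fintype.card F ≠ 2 ∨ k ≠ 1) :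
    ∃ χ : Cfsg.POmega F ⇑(plusQ (k + 1) F) → ℂ, IsIrrCharacter (Cfsg.POmega F ⇑(plusQ (k + 1) F)) χ ∧
      ∀ P : Sylow 2 (Cfsg.POmega F ⇑(plusQ (k + 1) F)), χ 1 = Nat.card P ∧
        ∀ x : Cfsg.POmega F ⇑(plusQ (k + 1) F), x ∈ P → x ≠ 1 → χ x = 0 := by
  classical
  haveI : Fact (Nat.Prime 2) := ⟨Nat.prime_two⟩
  have hQ := plusQ_nondeg (F := F) (k + 1)
  have hnd := CfsgLib.Orth.nd_of_qf _ hQ
  have hS := std_plus (F := F) k
  have hfr := frame_plus (F := F) (k + 1)
  have h20 : (2 : F) = 0 := CharTwo.two_eq_zero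
  have hn : 2 ≤ Fintype.card (Fin (k + 1) ⊕ Fin (k + 1)) := by simp; omega
  have hex' : Fintype.card F ≠ 2 ∨ Fintype.card (Fin (k + 1) ⊕ Fin (k + 1)) ≠ 4 := by
    rcases hex with h | h
    · exact Or.inl h
    · exact Or.inr (by simp; omega)
  have hidx := CfsgLib.Orth.omega_index_two hnd hn hex' h20
  haveI hsq : Subsingleton (CfsgLib.Orth.SqClass F) :=
    (Nat.card_eq_one_iff_unique.1 (CfsgLib.Orth.card_sqClass_two (F := F) h20)).1
  have hmem : ∀ g : ↥(Cfsg.isometryGroup F ⇑(plusQ (k + 1) F)),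
      g ∈ Cfsg.Omega F ⇑(plusQ (k + 1) F) ↔ Even (CfsgLib.Orth.wrk g.1) := fun g => by
    rw [CfsgLib.Orth.mem_omega_iff hnd hn hex']
    exact ⟨fun h => h.2, fun h => ⟨Subsingleton.elim _ _, h⟩⟩
  obtain ⟨el, hel⟩ : ∃ el : Fin (k + 1) ⊕ Fin (k + 1) → F,
      el = Pi.single (Sum.inl (Fin.last k)) 1 - Pi.single (Sum.inr (Fin.last k)) 1 := ⟨_, rfl⟩
  have hQel : plusQ (k + 1) F el = -1 := by
    rw [hel, plusQ_coe, Cfsg.quadFormPlus, Finset.sum_eq_single (Fin.last k) (fun i _ hi => by simp [hi])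
      (fun h => absurd (Finset.mem_univ _) h)]
    simp
  have helne : plusQ (k + 1) F el ≠ 0 := by rw [hQel]; exact neg_ne_zero.2 one_ne_zero
  obtain ⟨s, -, hs⟩ := CfsgLib.Orth.exists_reflIso hQ helne
  have hsn : s ∉ Cfsg.Omega F ⇑(plusQ (k + 1) F) := fun hm => by
    have h1 := (hmem s).1 hm
    rw [(CfsgLib.Orth.refl_spn hnd s.2 hs helne).1] at h1
    exact Nat.not_even_one h1
  obtain ⟨e', he'⟩ : ∃ e' : Fin (k + 1) → Fin (k + 1) ⊕ Fin (k + 1) → F,
      e' = fun i => s.1.1 *ᵥ Pi.single (Sum.inl i) 1 := ⟨_, rfl⟩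
  refine hS.exists_of_restrict 2 hidx ⟨1, by norm_num, by norm_num⟩
    (Isom.isIrr_subgroup hS.max (movesFrames hQ (k + 1)) (Pol.chF_mem hfr) _ (fun g hg => ?_) fun g φ hφc hφ => ?_)
  · -- the stabiliser of a chamber lies in `Omega`
    refine ⟨g, (hmem g).2 ?_, hg, rfl⟩
    obtain ⟨U, hU⟩ : ∃ U, U = Submodule.span F ((fun i => (Pi.single (Sum.inl i) 1 :
        Fin (k + 1) ⊕ Fin (k + 1) → F)) '' Set.Iic (Fin.last k)) := ⟨_, rfl⟩
    have hUts : (pol (plusQ (k + 1) F) hQ).IsTS U := hU ▸ Pol.isTS_span _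
      (fun x hx => by obtain ⟨i, -, rfl⟩ := hx; exact hfr.sing_e i)
      (fun x hx y hy => by obtain ⟨i, -, rfl⟩ := hx; obtain ⟨j, -, rfl⟩ := hy; exact hfr.br_ee i j)
    have hUr : Module.finrank F U = k + 1 := by
      rw [hU, show Set.Iic (Fin.last k) = Set.univ from Set.eq_univ_of_forall fun x => Fin.le_last x, Set.image_univ]
      have hli : LinearIndependent F fun i : Fin (k + 1) => (Pi.single (Sum.inl i) 1 : Fin (k + 1) ⊕ Fin (k + 1) → F) :=
        hfr.linearIndependent_sum.comp Sum.inl Sum.inl_injective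
      rw [finrank_span_eq_card hli, Fintype.card_fin]
    have hmap : U.map (Matrix.mulVecLin (g.1 : Matrix _ _ F)) = U := by
      have h1 := congrArg (fun C : (pol (plusQ (k + 1) F) hQ).Chamber (k + 1) => C.1[k]?) hg
      simp only [Isom.mv, Pol.chE, Pol.flag, List.getElem?_map, List.getElem?_ofFn, Nat.lt_succ_self, dite_true,
        Option.map_some, Option.some.injEq] at h1
      rw [show (⟨k, Nat.lt_succ_self k⟩ : Fin (k + 1)) = Fin.last k from rfl, ← hU] at h1
      refine Eq.trans ?_ h1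
      ext x
      rw [Submodule.mem_map, Isom.mapSub, Submodule.mem_map]
      rfl
    have := (CfsgLib.Orth.even_wrk_iff hnd hex' (m := k + 1) (by simp) hUr hUts.sing g.2).1
    refine this ?_
    rw [hmap, inf_idem, hUr, Nat.sub_self]
    exact Even.zero
  · by_cases hgm : g ∈ Cfsg.Omega F ⇑(plusQ (k + 1) F)
    · exact ⟨g, hgm, hφ⟩
    refine ⟨g * s, (Subgroup.mul_mem_iff_of_index_two hidx).2 (iff_of_false hgm hsn), ?_⟩
    letI := (isom (plusQ (k + 1) F) hQ).chambers (k + 1)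
    have hψ := (isom (plusQ (k + 1) F) hQ).inv_cycles (k + 1) g⁻¹ φ hφc
    simp only [inv_inv] at hψ
    have hse : ∀ i, i ≠ Fin.last k → e' i = Pi.single (Sum.inl i) 1 := fun i hi => by
      rw [he']
      show s.1.1 *ᵥ _ = _
      rw [hs, polar_plus, Finset.sum_eq_single i (fun j _ hj => by simp [hj])
        (fun h => absurd (Finset.mem_univ _) h)]
      simp [hel, hi]
    have hsl : e' (Fin.last k) = Pi.single (Sum.inr (Fin.last k)) 1 := by
      rw [he']
      show s.1.1 *ᵥ _ = _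
      rw [hs, hQel, polar_plus, Finset.sum_eq_single (Fin.last k) (fun j _ hj => by simp [hj])
        (fun h => absurd (Finset.mem_univ _) h)]
      simp [hel]
    have htwin := Pol.cycle_twin hS.max rfl (by simp; ring) hfr
      (e' := fun i => if i = Fin.last k then Pi.single (Sum.inr i) 1 else Pi.single (Sum.inl i) 1)
      hψ (fun i hi => if_neg hi) (if_pos rfl)
      ((isom (plusQ (k + 1) F) hQ).mv s (Pol.chE hfr)) ?_
    · rw [Isom.mv_mul]
      intro h0
      change φ ((isom (plusQ (k + 1) F) hQ).mv g ((isom (plusQ (k + 1) F) hQ).mv s (Pol.chE hfr))) = -φ _ at htwin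
      rw [h0] at htwin
      exact hφ (neg_eq_zero.1 htwin.symm)
    · show List.map _ _ = _
      rw [Pol.chE]
      exact ((isom (plusQ (k + 1) F) hQ).mv_flag s _).trans (congrArg _ (funext fun i => by
        by_cases hi : i = Fin.last k
        · subst hi
          rw [if_pos rfl]
          exact (congrFun he' _).symm.trans hsl
        · rw [if_neg hi]
          exact (congrFun he' i).symm.trans (hse i hi)))

end Orthog

end CfsgLib.Char.PolarSteinberg
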