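import Cfsg.Agent.Lib.Char.PolarSteinberg.Finish
import Cfsg.Agent.Lib.Classical.SmallOrth
import Cfsg.Agent.Lib.Char.Degree
import Cfsg.Agent.Lib.Char.Orthogonality
import Cfsg.Prelude.Def_Classical

/-!
# The Steinberg character of `POmega+_4(2)`
-/

set_option autoImplicit false
set_option linter.unusedSectionVars false

namespace CfsgLib.Char.PolarSteinberg.OrthFour

open Cfsg CfsgLib.Char

theorem alt_three_comm : ∀ a b : Equiv.Perm (Fin 3), Equiv.Perm.sign a = 1 → Equiv.Perm.sign b = 1 → a * b = b * a := by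
  decide

theorem perm_three_center : ∀ c : Equiv.Perm (Fin 3), (∀ x, x * c = c * x) → c = 1 := by decide

theorem conj_classes_three : Fintype.card (ConjClasses (Equiv.Perm (Fin 3))) = 3 := by decide

theorem tau_sq : ((Equiv.swap (0 : Fin 3) 1, (1 : Equiv.Perm (Fin 3)))) ^ 2 = 1 := by decide

/-- Conjugation by a transposition of the first factor on the elements of order dividing three. -/
def conjTau : Equiv.Perm {q : Equiv.Perm (Fin 3) × Equiv.Perm (Fin 3) // q ^ 3 = 1} where
  toFun q := ⟨(Equiv.swap 0 1, 1) * q.1 * (Equiv.swap 0 1, 1)⁻¹, by rw [conj_pow, q.2, mul_one, mul_inv_cancel]⟩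
  invFun q := ⟨(Equiv.swap 0 1, 1)⁻¹ * q.1 * ((Equiv.swap 0 1, 1)⁻¹)⁻¹, by
    rw [conj_pow, q.2, mul_one, mul_inv_cancel]⟩
  left_inv q := Subtype.ext (by group)
  right_inv q := Subtype.ext (by group)

theorem conjTau_odd : Equiv.Perm.sign conjTau = -1 := by decide

theorem exists_degree_two : ∃ θ : Equiv.Perm (Fin 3) → ℂ, IsIrrCharacter (Equiv.Perm (Fin 3)) θ ∧ θ 1 = 2 := by
  classical
  have hcl : Nat.card (ConjClasses (Equiv.Perm (Fin 3))) = 3 := by
    rw [Nat.card_eq_fintype_card]
    convert conj_classes_three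
  haveI := Fintype.ofFinite (IrrCharacter (Equiv.Perm (Fin 3)))
  obtain ⟨χ, hχ⟩ : ∃ χ : IrrCharacter (Equiv.Perm (Fin 3)), (χ : Equiv.Perm (Fin 3) → ℂ) 1 ≠ 1 := by
    by_contra hcon
    push Not at hcon
    have h := sum_degree_sq (G := Equiv.Perm (Fin 3))
    rw [Finset.sum_congr rfl fun χ _ => by rw [hcon χ, one_pow], Finset.sum_const, Finset.card_univ,
      ← Nat.card_eq_fintype_card, card_irr_eq_card_conjClasses, hcl, Nat.card_perm, Nat.card_fin] at h
    norm_num [Nat.factorial] at h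
  obtain ⟨d, hd, hdeg⟩ := isIrrCharacter_degree χ.2
  haveI : (alternatingGroup (Fin 3)).Normal := inferInstance
  have hdvd := degree_dvd_index_abelian _ (alternatingGroup (Fin 3))
    (fun a ha b hb => alt_three_comm a b (Equiv.Perm.mem_alternatingGroup.1 ha) (Equiv.Perm.mem_alternatingGroup.1 hb))
    χ χ.2 d hdeg
  rw [alternatingGroup.index_eq_two] at hdvd
  rcases (Nat.dvd_prime Nat.prime_two).1 hdvd with h1 | h2
  · exact absurd (by rw [hdeg, h1, Nat.cast_one]) hχ
  · exact ⟨χ, χ.2, by rw [hdeg, h2, Nat.cast_ofNat]⟩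

variable {G : Type*} [Group G] [Finite G]

theorem exists_steinberg_of_split (h72 : Nat.card G = 72) (a b : Equiv.Perm (Fin 3) →* G)
    (ha : Function.Injective a) (hb : Function.Injective b) (hdisj : a.range ⊓ b.range = ⊥)
    (hcomm : ∀ x y, Commute (a x) (b y)) (hidx : (a.range ⊔ b.range).index = 2) (g : G)
    (hg : ∀ x, ∃ y, g * a x * g⁻¹ = b y) :
    ∃ χ : ↥(commutator G) ⧸ Subgroup.center ↥(commutator G) → ℂ,
      IsIrrCharacter (↥(commutator G) ⧸ Subgroup.center ↥(commutator G)) χ ∧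
      ∀ P : Sylow 2 (↥(commutator G) ⧸ Subgroup.center ↥(commutator G)), χ 1 = Nat.card P ∧
        ∀ x : ↥(commutator G) ⧸ Subgroup.center ↥(commutator G), x ∈ P → x ≠ 1 → χ x = 0 := by
  classical
  haveI : Fact (Nat.Prime 2) := ⟨Nat.prime_two⟩
  let σ := a.noncommCoprod b hcomm
  have hσi : Function.Injective σ := (MonoidHom.noncommCoprod_injective a b hcomm).2 ⟨ha, hb, disjoint_iff.2 hdisj⟩
  have hσr : σ.range = a.range ⊔ b.range := a.noncommCoprod_range b hcomm
  obtain ⟨K, hK⟩ : ∃ K, K = a.range ⊔ b.range := ⟨_, rfl⟩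
  haveI : K.Normal := hK ▸ Subgroup.normal_of_index_eq_two hidx
  haveI : Std.Commutative (α := G ⧸ K) (· * ·) := by
    have hc : Nat.card (G ⧸ K) = 2 := by rw [← Subgroup.index_eq_card, hK, hidx]
    haveI : IsCyclic (G ⧸ K) := isCyclic_of_prime_card hc
    exact (IsCyclic.commutative (α := G ⧸ K)).is_comm
  have hle : commutator G ≤ K := by
    rw [commutator_def, Subgroup.commutator_le]
    intro x _ y _
    rw [← QuotientGroup.eq_one_iff, commutatorElement_def]
    simp only [QuotientGroup.mk_mul, QuotientGroup.mk_inv]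
    rw [Std.Commutative.comm (op := (· * ·)) (x : G ⧸ K) (y : G ⧸ K)]
    group
  -- coordinates on `K`
  have hinv : ∀ k : ↥(commutator G), ∃ p, σ p = k.1 := fun k => by
    have := hle k.2
    rw [hK, ← hσr] at this
    exact this
  choose π hπ using hinv
  let P1 : ↥(commutator G) →* Equiv.Perm (Fin 3) := MonoidHom.mk' (fun k => (π k).1) fun k l => by
    have : π (k * l) = π k * π l := hσi (by rw [hπ, map_mul, hπ, hπ]; rfl)
    rw [this]; rfl
  have hP1 : Function.Surjective P1 := by
    intro x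
    obtain ⟨y, hy⟩ := hg x⁻¹
    have hm : g * a x⁻¹ * g⁻¹ * (a x⁻¹)⁻¹ ∈ commutator G :=
      Subgroup.commutator_mem_commutator (Subgroup.mem_top g) (Subgroup.mem_top (a x⁻¹))
    refine ⟨⟨_, hm⟩, ?_⟩
    have : π ⟨_, hm⟩ = (x, y) := hσi (by
      rw [hπ]
      show g * a x⁻¹ * g⁻¹ * (a x⁻¹)⁻¹ = a x * b y
      rw [hy, map_inv, inv_inv, (hcomm x y).eq])
    show (π ⟨_, hm⟩).1 = x
    rw [this]
  obtain ⟨θ, hθ, hθ2⟩ := exists_degree_two
  have hirr := isIrrCharacter_comp_surjective hθ P1 hP1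
  -- the order
  have h4 : ¬ 2 ^ (1 + 1) ∣ Nat.card ↥(commutator G) := by
    intro h4
    -- a sign character which is odd on a transposition of the first factor
    let T := {x : G // x ^ 3 = 1}
    haveI : Fintype T := Fintype.ofFinite T
    letI : MulAction G T :=
      { smul := fun w x => ⟨w * x.1 * w⁻¹, by rw [conj_pow, x.2, mul_one, mul_inv_cancel]⟩
        one_smul := fun x => Subtype.ext (by show 1 * x.1 * 1⁻¹ = x.1; group)
        mul_smul := fun v w x => Subtype.ext (by
          show (v * w) * x.1 * (v * w)⁻¹ = v * (w * x.1 * w⁻¹) * v⁻¹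
          group) }
    obtain ⟨Ψ, hΨ⟩ : ∃ Ψ : G →* ℤˣ, ∀ w, Ψ w = Equiv.Perm.sign (MulAction.toPermHom G T w) :=
      ⟨Equiv.Perm.sign.comp (MulAction.toPermHom G T), fun w => rfl⟩
    have hK36 : Nat.card σ.range = 36 := by
      rw [← Nat.card_congr (MonoidHom.ofInjective hσi).toEquiv, Nat.card_prod, Nat.card_perm, Nat.card_fin]
      rfl
    haveI hKn : (σ.range).Normal := by rw [hσr, ← hK]; infer_instance
    have h3K : ∀ x : G, x ^ 3 = 1 → x ∈ σ.range := fun x hx => by
      have h := Subgroup.pow_index_mem σ.range x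
      rw [hσr, hidx] at h
      rw [hσr]
      have := Subgroup.inv_mem _ h
      have e : x = (x ^ 2)⁻¹ := eq_inv_of_mul_eq_one_left (by rw [← pow_succ', hx])
      rwa [← e] at this
    let eT : {q : Equiv.Perm (Fin 3) × Equiv.Perm (Fin 3) // q ^ 3 = 1} ≃ T :=
      Equiv.ofBijective (fun q => ⟨σ q.1, by rw [← map_pow, q.2, map_one]⟩) ⟨fun q q' e => Subtype.ext (hσi
        (congrArg Subtype.val e)), fun x => by
        obtain ⟨q, hq⟩ := h3K x.1 x.2
        exact ⟨⟨q, hσi (by rw [map_pow, hq, x.2, map_one])⟩, Subtype.ext hq⟩⟩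
    obtain ⟨τ, hτ⟩ : ∃ τ : Equiv.Perm (Fin 3) × Equiv.Perm (Fin 3), τ = (Equiv.swap 0 1, 1) := ⟨_, rfl⟩
    have hodd : Ψ (σ τ) = -1 := by
      rw [hΨ, show MulAction.toPermHom G T (σ τ) = eT.permCongr conjTau from Equiv.ext fun x => by
        obtain ⟨q, rfl⟩ := eT.surjective x
        rw [Equiv.permCongr_apply, Equiv.symm_apply_apply]
        refine Subtype.ext ?_
        show σ τ * σ q.1 * (σ τ)⁻¹ = σ ((Equiv.swap 0 1, 1) * q.1 * (Equiv.swap 0 1, 1)⁻¹)
        rw [hτ, map_mul, map_mul, map_inv], Equiv.Perm.sign_permCongr]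
      exact conjTau_odd
    have hCσ : commutator G ≤ σ.range := hσr ▸ hK ▸ hle
    have hrel := Subgroup.card_dvd_of_le hCσ
    have hmul : Nat.card ↥(commutator G) * (commutator G).relIndex σ.range = 36 := by
      have e1 := (Subgroup.relIndex_mul_index hCσ)
      have e2 := Subgroup.card_mul_index (commutator G)
      have e3 := Subgroup.card_mul_index σ.range
      rw [hK36, hσr, hidx] at e3
      rw [← e1, hσr, hidx, ← hσr, h72, ← mul_assoc] at e2
      omega
    have hτ2 : (σ τ) ^ 2 = 1 := by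
      rw [← map_pow, hτ, tau_sq, map_one]
    have hmem : σ τ ∈ commutator G := by
      have h := Subgroup.pow_index_mem ((commutator G).subgroupOf σ.range) ⟨σ τ, τ, rfl⟩
      rw [Subgroup.mem_subgroupOf] at h
      have h' : (σ τ) ^ (commutator G).relIndex σ.range ∈ commutator G := h
      have hoddidx : (commutator G).relIndex σ.range % 2 = 1 := by
        obtain ⟨c, hc⟩ := h4
        rw [hc] at hmul
        have h9 : c * (commutator G).relIndex σ.range = 9 := by
          norm_num at hmul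
          linarith
        rcases Nat.mod_two_eq_zero_or_one ((commutator G).relIndex σ.range) with h0 | h0
        · have := congrArg (· % 2) h9
          simp [Nat.mul_mod, h0] at this
        · exact h0
      rwa [← Nat.div_add_mod ((commutator G).relIndex σ.range) 2, hoddidx, pow_add, pow_mul, hτ2, one_pow, one_mul,
        pow_one] at h'
    rw [MonoidHom.mem_ker.1 (Abelianization.commutator_subset_ker Ψ hmem)] at hodd
    exact absurd hodd (by decide)
  refine exists_on_quotient (n := 1) hirr (by rw [map_one, hθ2]; norm_num) h4 _ fun z hz => ?_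
  have hz1 : P1 z = 1 := by
    refine perm_three_center _ fun x => ?_
    obtain ⟨k, rfl⟩ := hP1 x
    rw [← map_mul, ← map_mul, Subgroup.mem_center_iff.1 hz k]
  simp only [hz1, map_one]

end CfsgLib.Char.PolarSteinberg.OrthFour
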