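import Cfsg.Agent.Lib.Char.PolarSteinberg.OrthEven
import Cfsg.Agent.Lib.Char.PolarSteinberg.OrthFour

/-!
# Steinberg characters of the projective orthogonal groups
-/

set_option autoImplicit false
set_option linter.unusedSectionVars false

namespace CfsgLib.Char.PolarSteinberg.Orthog

open Matrix Module Cfsg CfsgLib.Classical

variable {F : Type*} [Field F] [Fintype F] (p : ℕ) [Fact p.Prime] [CharP F p]

theorem two_ne_zero_of_ne (hp2 : p ≠ 2) : (2 : F) ≠ 0 := fun h => by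
  have h' : p ∣ 2 := (CharP.cast_eq_zero_iff F p 2).1 (by simpa using h)
  exact hp2 ((Nat.prime_dvd_prime_iff_eq Fact.out Nat.prime_two).1 h')

theorem prime_to_order {ι : Type} [Fintype ι] [DecidableEq ι] (Q : QuadraticForm F (ι → F)) {x : ℕ}
    (hx : Nat.card ↥(Cfsg.isometryGroup F ⇑Q) = 2 * x) (hpx : ¬ p ∣ x)
    (hidx : p = 2 → (Cfsg.Omega F ⇑Q).index = 2) : ¬ p ∣ Nat.card ↥(Cfsg.Omega F ⇑Q) := by
  intro h
  rcases eq_or_ne p 2 with hp | hp
  · have h1 := Subgroup.card_mul_index (Cfsg.Omega F ⇑Q)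
    rw [hidx hp, hx, mul_comm 2] at h1
    exact hpx (Nat.eq_of_mul_eq_mul_right two_pos h1 ▸ h)
  · have h1 := hx ▸ h.trans (Subgroup.card_subgroup_dvd_card _)
    rcases (Nat.Prime.dvd_mul (Fact.out : p.Prime)).1 h1 with h2 | h2
    · exact hp ((Nat.prime_dvd_prime_iff_eq Fact.out Nat.prime_two).1 h2)
    · exact hpx h2

theorem dvd_card : p ∣ Fintype.card F := by
  obtain ⟨f, -, hf⟩ := FiniteField.card F p
  exact hf ▸ dvd_pow_self p f.pos.ne'

theorem exists_odd_dim (hodd : Odd (Fintype.card F)) (m : ℕ) (hm : 1 ≤ m) :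
    ∃ χ : Cfsg.POmega F (Cfsg.quadFormOdd m F) → ℂ, IsIrrCharacter (Cfsg.POmega F (Cfsg.quadFormOdd m F)) χ ∧
      ∀ P : Sylow p (Cfsg.POmega F (Cfsg.quadFormOdd m F)), χ 1 = Nat.card P ∧
        ∀ x : Cfsg.POmega F (Cfsg.quadFormOdd m F), x ∈ P → x ≠ 1 → χ x = 0 := by
  have h2 : (2 : F) ≠ 0 := two_ne_zero_of_ne p fun hp => by
    have := dvd_card (F := F) p
    rw [hp] at this
    exact (Nat.not_even_iff_odd.2 hodd) (even_iff_two_dvd.2 this)
  rw [← oddQ_coe]
  exact (std_odd h2 m).exists_odd (by simp; omega) p h2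

theorem exists_plus (m : ℕ) (hm : 1 ≤ m) :
    ∃ χ : Cfsg.POmega F (Cfsg.quadFormPlus m F) → ℂ, IsIrrCharacter (Cfsg.POmega F (Cfsg.quadFormPlus m F)) χ ∧
      ∀ P : Sylow p (Cfsg.POmega F (Cfsg.quadFormPlus m F)), χ 1 = Nat.card P ∧
        ∀ x : Cfsg.POmega F (Cfsg.quadFormPlus m F), x ∈ P → x ≠ 1 → χ x = 0 := by
  classical
  rw [← plusQ_coe]
  obtain ⟨k, rfl⟩ : ∃ k, m = k + 1 := ⟨m - 1, by omega⟩
  rcases Nat.eq_zero_or_pos k with rfl | hk
  · refine exists_on_quotient_of_not_dvd (prime_to_order p _ (x := Fintype.card F - 1) ?_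
      (fun h => ?_) fun hp => ?_) _
    · rw [plusQ_coe, card_iso_plus 0]
      simp
    · exact not_dvd_pow_sub_one (Fact.out : p.Prime) (dvd_card (F := F) p) Fintype.card_pos le_rfl (by simpa using h)
    · subst hp
      exact CfsgLib.Orth.omega_index_two (CfsgLib.Orth.nd_of_qf _ (plusQ_nondeg 1)) (by simp) (Or.inr (by simp))
        CharTwo.two_eq_zero
  rcases eq_or_ne p 2 with hp | hp
  swap
  · exact (std_plus k).exists_odd (by simp; omega) p (two_ne_zero_of_ne p hp)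
  subst hp
  by_cases hex : Fintype.card F ≠ 2 ∨ k ≠ 1
  · exact exists_plus_even k hk hex
  push Not at hex
  obtain ⟨h2, rfl⟩ := hex
  let f : ZMod 2 ≃+* F := ZMod.ringEquiv F h2
  let E : ↥(Cfsg.isometryGroup (ZMod 2) (Cfsg.quadFormPlus 2 (ZMod 2))) ≃*
      ↥(Cfsg.isometryGroup F ⇑(plusQ 2 F)) := SmallOrth.isoEquiv f fun v => by
    rw [plusQ_coe]
    simp only [Cfsg.quadFormPlus, map_sum, map_mul]
  obtain ⟨h72, A, B, ⟨ea⟩, ⟨eb⟩, hdisj, hcomm, hidx, g, hg⟩ := SmallOrth.plusFour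
  let a := E.toMonoidHom.comp (A.subtype.comp ea.symm.toMonoidHom)
  let b := E.toMonoidHom.comp (B.subtype.comp eb.symm.toMonoidHom)
  have har : a.range = A.map E.toMonoidHom := by
    rw [MonoidHom.range_comp, MonoidHom.range_comp, MonoidHom.range_eq_top.2 ea.symm.surjective,
      ← MonoidHom.range_eq_map A.subtype, Subgroup.range_subtype]
  have hbr : b.range = B.map E.toMonoidHom := by
    rw [MonoidHom.range_comp, MonoidHom.range_comp, MonoidHom.range_eq_top.2 eb.symm.surjective,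
      ← MonoidHom.range_eq_map B.subtype, Subgroup.range_subtype]
  refine OrthFour.exists_steinberg_of_split ((Nat.card_congr E.toEquiv).symm.trans h72) a b
    (E.injective.comp (Subtype.val_injective.comp ea.symm.injective))
    (E.injective.comp (Subtype.val_injective.comp eb.symm.injective)) ?_
    (fun x y => Commute.map (hcomm _ (ea.symm x).2 _ (eb.symm y).2) E.toMonoidHom) ?_ (E g) fun x => ?_
  · rw [har, hbr, ← Subgroup.map_inf _ _ _ E.injective, hdisj, Subgroup.map_bot]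
  · rw [har, hbr, ← Subgroup.map_sup]
    exact (Subgroup.index_map_equiv _ E).trans hidx
  · have hm : g * (ea.symm x).1 * g⁻¹ ∈ B := hg ▸ ⟨_, (ea.symm x).2, rfl⟩
    refine ⟨eb ⟨_, hm⟩, ?_⟩
    show E g * E (ea.symm x).1 * (E g)⁻¹ = E (eb.symm (eb ⟨_, hm⟩)).1
    rw [eb.symm_apply_apply, map_mul, map_mul, map_inv]

theorem exists_minus (m : ℕ) {a b : F}
    (hab : ∀ z₁ z₂ : F, z₁ ^ 2 + a * z₁ * z₂ + b * z₂ ^ 2 = 0 → z₁ = 0 ∧ z₂ = 0) :
    ∃ χ : Cfsg.POmega F (Cfsg.quadFormMinus m F a b) → ℂ,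
      IsIrrCharacter (Cfsg.POmega F (Cfsg.quadFormMinus m F a b)) χ ∧
      ∀ P : Sylow p (Cfsg.POmega F (Cfsg.quadFormMinus m F a b)), χ 1 = Nat.card P ∧
        ∀ x : Cfsg.POmega F (Cfsg.quadFormMinus m F a b), x ∈ P → x ≠ 1 → χ x = 0 := by
  classical
  rw [← minusQ_coe]
  rcases eq_or_ne p 2 with hp | hp
  · subst hp
    exact exists_minus_even hab m
  rcases Nat.eq_zero_or_pos m with rfl | hm
  · refine exists_on_quotient_of_not_dvd (prime_to_order p _ (x := Fintype.card F + 1) ?_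
      (fun h => ?_) fun hp2 => absurd hp2 hp) _
    · rw [minusQ_coe, card_iso_minus hab 0]
      simp
    · exact not_dvd_pow_add_one (Fact.out : p.Prime) (dvd_card (F := F) p) le_rfl (by simpa using h)
  · exact (std_minus hab m).exists_odd (by simp) p (two_ne_zero_of_ne p hp)

end CfsgLib.Char.PolarSteinberg.Orthog
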