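import Mathlib.LinearAlgebra.Dual.Lemmas
import Mathlib.LinearAlgebra.FiniteDimensional.Lemmas
import Mathlib.Algebra.BigOperators.Finprod
import Mathlib.Analysis.Complex.Basic
import Mathlib.Data.Set.Finite.List

/-!
# Polar spaces given by a reflexive form, chains of totally singular subspaces, cycles

The form is semilinear in the first variable; `sing` is the set of singular vectors.
-/

set_option autoImplicit false
set_option linter.unusedSectionVars false

namespace CfsgLib.Char.PolarSteinberg

open Module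

universe u v

/-- A reflexive form with a set of singular vectors. -/
structure Pol (F : Type u) (V : Type v) [Field F] [AddCommGroup V] [Module F V] where
  τ : F →+* F
  τ_surj : Function.Surjective τ
  br : V →ₛₗ[τ] V →ₗ[F] F
  refl : ∀ u v, br u v = 0 → br v u = 0
  nondeg : ∀ v, (∀ x, br v x = 0) → v = 0
  sing : V → Prop
  sing_zero : sing 0
  sing_smul : ∀ (a : F) v, sing v → sing (a • v)
  sing_self : ∀ v, sing v → br v v = 0
  sing_add : ∀ u v, sing u → sing v → br u v = 0 → sing (u + v)
  N : ℕ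
  count : ∀ c v, sing c → br c v = 1 → Nat.card {a : F // sing (v + a • c)} = N

namespace Pol

variable {F : Type u} {V : Type v} [Field F] [AddCommGroup V] [Module F V] (P : Pol F V)

/-- The orthogonal of a subspace. -/
def perp (X : Submodule F V) : Submodule F V where
  carrier := {v | ∀ x ∈ X, P.br x v = 0}
  add_mem' {a b} ha hb x hx := by rw [map_add, ha x hx, hb x hx, add_zero]
  zero_mem' x _ := map_zero _
  smul_mem' c a ha x hx := by rw [map_smul, ha x hx, smul_zero]

theorem mem_perp {X : Submodule F V} {v : V} : v ∈ P.perp X ↔ ∀ x ∈ X, P.br x v = 0 := Iff.rfl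

theorem mem_perp' {X : Submodule F V} {v : V} : v ∈ P.perp X ↔ ∀ x ∈ X, P.br v x = 0 :=
  ⟨fun h x hx => P.refl _ _ (h x hx), fun h x hx => P.refl _ _ (h x hx)⟩

theorem br_comm_zero {u v : V} : P.br u v = 0 ↔ P.br v u = 0 := ⟨P.refl u v, P.refl v u⟩

theorem perp_antitone {X Y : Submodule F V} (h : X ≤ Y) : P.perp Y ≤ P.perp X := fun _ hv x hx => hv x (h hx)

theorem le_perp_iff {X Y : Submodule F V} : X ≤ P.perp Y ↔ Y ≤ P.perp X :=
  ⟨fun h y hy x hx => P.refl _ _ (h hx y hy), fun h y hy x hx => P.refl _ _ (h hx y hy)⟩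

theorem mem_perp_span {S : Set V} {v : V} : v ∈ P.perp (Submodule.span F S) ↔ ∀ x ∈ S, P.br v x = 0 := by
  rw [P.mem_perp']
  refine ⟨fun h x hx => h x (Submodule.subset_span hx), fun h x hx => ?_⟩
  exact (Submodule.span_le (p := LinearMap.ker (P.br v))).2 h hx

theorem mem_perp_singleton {c v : V} : v ∈ P.perp (Submodule.span F {c}) ↔ P.br c v = 0 := by
  rw [P.mem_perp_span]
  simp only [Set.mem_singleton_iff, forall_eq]
  exact P.br_comm_zero

theorem br_smul (a : F) (u v : V) : P.br (a • u) v = P.τ a * P.br u v := by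
  rw [LinearMap.map_smulₛₗ, LinearMap.smul_apply, smul_eq_mul]

theorem perp_sup (X Y : Submodule F V) : P.perp (X ⊔ Y) = P.perp X ⊓ P.perp Y := by
  refine le_antisymm (le_inf (P.perp_antitone le_sup_left) (P.perp_antitone le_sup_right)) ?_
  intro v hv
  refine (P.mem_perp').2 fun x hx => ?_
  have hle : X ⊔ Y ≤ LinearMap.ker (P.br v) :=
    sup_le (fun a ha => LinearMap.mem_ker.2 ((P.mem_perp').1 hv.1 a ha))
      (fun a ha => LinearMap.mem_ker.2 ((P.mem_perp').1 hv.2 a ha))
  exact hle hx

variable [FiniteDimensional F V]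

theorem finrank_perp (X : Submodule F V) : finrank F (P.perp X) + finrank F X = finrank F V := by
  classical
  let b := Module.finBasis F X
  let L : V →ₗ[F] (Fin (finrank F X) → F) := LinearMap.pi fun i => P.br (b i : V)
  have hL : ∀ v i, L v i = P.br (b i : V) v := fun v i => rfl
  have hker : LinearMap.ker L = P.perp X := by
    refine le_antisymm (fun v hv => (P.mem_perp').2 fun x hx => ?_)
      fun v hv => LinearMap.mem_ker.2 (funext fun i => hv _ (b i).2)
    have : X ≤ LinearMap.ker (P.br v) := by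
      intro y hy
      rw [LinearMap.mem_ker, show y = ((⟨y, hy⟩ : X) : V) from rfl, ← b.sum_repr ⟨y, hy⟩, Submodule.coe_sum, map_sum]
      refine Finset.sum_eq_zero fun i _ => ?_
      rw [Submodule.coe_smul, map_smul, P.refl _ _ ((hL v i).symm.trans (congrFun (LinearMap.mem_ker.1 hv) i)),
        smul_zero]
    exact this hx
  have hs : LinearMap.range L = ⊤ := by
    by_contra hne
    obtain ⟨f, hf0, hf⟩ := Submodule.exists_dual_map_eq_bot_of_lt_top (lt_top_iff_ne_top.2 hne) inferInstance
    have hfv : ∀ v, f (L v) = 0 := fun v => by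
      have : f (L v) ∈ (LinearMap.range L).map f := Submodule.mem_map_of_mem ⟨v, rfl⟩
      rwa [hf, Submodule.mem_bot] at this
    choose a ha using fun i => P.τ_surj (f (Pi.single i 1))
    have hz : (∑ i, a i • (b i : V)) = 0 := P.nondeg _ fun v => by
      rw [map_sum, LinearMap.sum_apply, ← hfv v]
      conv_rhs => rw [← Finset.univ_sum_single (L v)]
      rw [map_sum]
      refine Finset.sum_congr rfl fun i _ => ?_
      rw [P.br_smul, ha, ← hL, mul_comm, ← smul_eq_mul, ← map_smul, ← Pi.single_smul', smul_eq_mul, mul_one]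
    have ha0 : ∀ i, a i = 0 := Fintype.linearIndependent_iff.1
      (b.linearIndependent.map' X.subtype (Submodule.ker_subtype _)) a hz
    refine hf0 (LinearMap.pi_ext' fun i => LinearMap.ext_ring ?_)
    show f (Pi.single i 1) = 0
    rw [← ha, ha0, map_zero]
  have := LinearMap.finrank_range_add_finrank_ker L
  rw [hs, finrank_top, finrank_fintype_fun_eq_card, Fintype.card_fin, hker] at this
  omega

theorem perp_perp (X : Submodule F V) : P.perp (P.perp X) = X := by
  refine (Submodule.eq_of_le_of_finrank_eq (P.le_perp_iff.1 le_rfl) ?_).symm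
  have h1 := P.finrank_perp X
  have h2 := P.finrank_perp (P.perp X)
  omega

/-- Totally singular subspaces. -/
structure IsTS (X : Submodule F V) : Prop where
  sing : ∀ x ∈ X, P.sing x
  le_perp : X ≤ P.perp X

theorem isTS_bot : P.IsTS ⊥ :=
  ⟨fun _ hx => (Submodule.mem_bot F).1 hx ▸ P.sing_zero, bot_le⟩

variable {P}

theorem IsTS.mono {X Y : Submodule F V} (hY : P.IsTS Y) (h : X ≤ Y) : P.IsTS X :=
  ⟨fun x hx => hY.sing x (h hx), h.trans (hY.le_perp.trans (P.perp_antitone h))⟩

theorem IsTS.two_mul_finrank_le {X : Submodule F V} (hX : P.IsTS X) : 2 * finrank F X ≤ finrank F V := by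
  have h1 := P.finrank_perp X
  have h2 := Submodule.finrank_mono hX.le_perp
  omega

theorem IsTS.sup {X Y : Submodule F V} (hX : P.IsTS X) (hY : P.IsTS Y) (h : Y ≤ P.perp X) : P.IsTS (X ⊔ Y) := by
  refine ⟨fun v hv => ?_, ?_⟩
  · obtain ⟨x, hx, y, hy, rfl⟩ := Submodule.mem_sup.1 hv
    exact P.sing_add x y (hX.sing x hx) (hY.sing y hy) (h hy x hx)
  · rw [P.perp_sup]
    exact sup_le (le_inf hX.le_perp (P.le_perp_iff.1 h)) (le_inf h hY.le_perp)

theorem isTS_span_singleton {v : V} (hv : P.sing v) : P.IsTS (Submodule.span F {v}) := by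
  refine ⟨fun x hx => ?_, (Submodule.span_singleton_le_iff_mem _ _).2 (P.mem_perp_singleton.2 (P.sing_self v hv))⟩
  obtain ⟨a, rfl⟩ := Submodule.mem_span_singleton.1 hx
  exact P.sing_smul a v hv

theorem IsTS.sup_span {X : Submodule F V} (hX : P.IsTS X) {v : V} (hv : P.sing v) (h : v ∈ P.perp X) :
    P.IsTS (X ⊔ Submodule.span F {v}) :=
  hX.sup (isTS_span_singleton hv) ((Submodule.span_singleton_le_iff_mem _ _).2 h)

variable (P)

theorem isTS_span {S : Set V} (hs : ∀ x ∈ S, P.sing x) (hb : ∀ x ∈ S, ∀ y ∈ S, P.br x y = 0) :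
    P.IsTS (Submodule.span F S) := by
  have hle : Submodule.span F S ≤ P.perp (Submodule.span F S) :=
    Submodule.span_le.2 fun x hx => P.mem_perp_span.2 fun y hy => hb x hx y hy
  refine ⟨fun x hx => ?_, hle⟩
  have : x ∈ Submodule.span F S ∧ P.sing x := by
    induction hx using Submodule.span_induction with
    | mem y hy => exact ⟨Submodule.subset_span hy, hs y hy⟩
    | zero => exact ⟨Submodule.zero_mem _, P.sing_zero⟩
    | add a b _ _ ha hb =>
      exact ⟨Submodule.add_mem _ ha.1 hb.1, P.sing_add a b ha.2 hb.2 (hle hb.1 a ha.1)⟩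
    | smul c a _ ha => exact ⟨Submodule.smul_mem _ c ha.1, P.sing_smul c a ha.2⟩
  exact this.2

/-- Being opposite is symmetric. -/
theorem opp_symm {A B : Submodule F V} (hd : finrank F A = finrank F B) (h : B ⊓ P.perp A = ⊥) :
    A ⊓ P.perp B = ⊥ := by
  have htop : B ⊔ P.perp A = ⊤ := by
    refine Submodule.eq_top_of_finrank_eq ?_
    have h1 := Submodule.finrank_sup_add_finrank_inf_eq B (P.perp A)
    rw [h, finrank_bot] at h1
    have h2 := P.finrank_perp A
    omega
  rw [eq_bot_iff]
  rintro a ⟨ha, ha'⟩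
  refine (Submodule.mem_bot F).2 (P.nondeg a fun x => ?_)
  obtain ⟨b, hb, w, hw, rfl⟩ := Submodule.mem_sup.1 (htop ▸ Submodule.mem_top : x ∈ B ⊔ P.perp A)
  rw [map_add, (P.mem_perp').1 ha' b hb, hw a ha, add_zero]

/-- A totally singular cover. -/
structure Cover (X Y : Submodule F V) : Prop where
  le : X ≤ Y
  rank : finrank F Y = finrank F X + 1
  ts : P.IsTS Y

/-- Chains of covers starting above a subspace. -/
def Chn : Submodule F V → List (Submodule F V) → Prop
  | _, [] => True
  | X, Y :: t => P.Cover X Y ∧ Chn Y t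

theorem chn_nil (X : Submodule F V) : P.Chn X [] := trivial

theorem chn_cons {X Y : Submodule F V} {t : List (Submodule F V)} :
    P.Chn X (Y :: t) ↔ P.Cover X Y ∧ P.Chn Y t := Iff.rfl

/-- The lists are opposite in every place. -/
def Opp (Cs L : List (Submodule F V)) : Prop := List.Forall₂ (fun A B => B ⊓ P.perp A = ⊥) Cs L

theorem opp_cons {A B : Submodule F V} {Cs L : List (Submodule F V)} :
    P.Opp (A :: Cs) (B :: L) ↔ B ⊓ P.perp A = ⊥ ∧ P.Opp Cs L := List.forall₂_cons

theorem opp_nil : P.Opp [] [] := List.Forall₂.nil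

/-- Chambers: maximal flags of totally singular subspaces, as lists. -/
def Chamber (r : ℕ) : Type v := {l : List (Submodule F V) // l.length = r ∧ P.Chn ⊥ l}

end Pol

/-- Signed incidence condition: the sum over each position vanishes. -/
def IsCycle {α : Type v} (φ : List α → ℂ) : Prop := ∀ l₁ l₂ : List α, ∑ᶠ Y, φ (l₁ ++ Y :: l₂) = 0

theorem IsCycle.slice {α : Type v} {φ : List α → ℂ} (h : IsCycle φ) (a : α) : IsCycle fun l => φ (a :: l) :=
  fun l₁ l₂ => h (a :: l₁) l₂

theorem IsCycle.single {α : Type v} {φ : List α → ℂ} (h : IsCycle φ) (l₁ l₂ : List α) (a : α)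
    (h0 : ∀ Y, Y ≠ a → φ (l₁ ++ Y :: l₂) = 0) : φ (l₁ ++ a :: l₂) = 0 := by
  rw [← h l₁ l₂, finsum_eq_single _ a h0]

end CfsgLib.Char.PolarSteinberg
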